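import Mathlib.GroupTheory.Sylow
import Mathlib.GroupTheory.Transfer
import Mathlib.GroupTheory.SpecificGroups.Alternating
import Mathlib.GroupTheory.SpecificGroups.Cyclic
import Mathlib.GroupTheory.PGroup
import Mathlib.Tactic.NormNum.Prime
import Mathlib.Tactic.NormNum.GCD
import Mathlib.Tactic.Linarith
import Mathlib.Tactic.IntervalCases

/-!
# Sylow counting toolkit and the embedding theorem for finite simple groups
-/

set_option autoImplicit false

namespace Cfsg.Agent.SmallGroups

open Subgroup

variable {G : Type*} [Group G] [Finite G]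

/-- The order of a Sylow `p`-subgroup, read off from `|G| = p ^ a * m` with `p ∤ m`. -/
theorem card_sylow_eq {p a m : ℕ} [hp : Fact p.Prime] (hG : Nat.card G = p ^ a * m)
    (hm : ¬ p ∣ m) (P : Sylow p G) : Nat.card ↥(P : Subgroup G) = p ^ a := by
  have hm0 : m ≠ 0 := fun h => hm (h ▸ dvd_zero p)
  rw [P.card_eq_multiplicity, hG, Nat.factorization_mul (pow_ne_zero _ hp.out.ne_zero) hm0,
    Finsupp.add_apply, hp.out.factorization_pow, Nat.factorization_eq_zero_of_not_dvd hm]
  simp

theorem index_sylow_eq {p a m : ℕ} [hp : Fact p.Prime] (hG : Nat.card G = p ^ a * m)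
    (hm : ¬ p ∣ m) (P : Sylow p G) : (P : Subgroup G).index = m := by
  have h := (P : Subgroup G).card_mul_index
  rw [card_sylow_eq hG hm P, hG] at h
  exact Nat.eq_of_mul_eq_mul_left (pow_pos hp.out.pos a) h

/-- Sylow's counting conditions. -/
theorem card_sylow_mem {p a m : ℕ} [hp : Fact p.Prime] (hG : Nat.card G = p ^ a * m)
    (hm : ¬ p ∣ m) : Nat.card (Sylow p G) ∣ m ∧ Nat.card (Sylow p G) % p = 1 := by
  obtain ⟨P⟩ := (inferInstance : Nonempty (Sylow p G))
  refine ⟨index_sylow_eq hG hm P ▸ P.card_dvd_index, ?_⟩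
  have h : Nat.card (Sylow p G) % p = 1 % p := card_sylow_modEq_one p G
  rwa [Nat.mod_eq_of_lt hp.out.one_lt] at h

/-- The divisors of `m` congruent to `1` modulo `p`, as the candidates for `n_p`. -/
theorem card_sylow_mem_list {p a m : ℕ} [hp : Fact p.Prime] (hG : Nat.card G = p ^ a * m)
    (hm : ¬ p ∣ m) : Nat.card (Sylow p G) ∈ m.divisors.filter (fun d => d % p = 1) := by
  have h := card_sylow_mem hG hm
  have hm0 : m ≠ 0 := fun h => hm (h ▸ dvd_zero p)
  rw [Finset.mem_filter, Nat.mem_divisors]
  exact ⟨⟨h.1, hm0⟩, h.2⟩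

theorem card_normalizer_mul {p : ℕ} [Fact p.Prime] (P : Sylow p G) :
    Nat.card ↥(normalizer ((P : Subgroup G) : Set G)) * Nat.card (Sylow p G) = Nat.card G := by
  rw [P.card_eq_index_normalizer]
  exact card_mul_index _

theorem normalizer_conj_eq_card {p : ℕ} [Fact p.Prime] (P : Sylow p G) {n k : ℕ}
    (hn : Nat.card (Sylow p G) = n) (hG : Nat.card G = k * n) :
    Nat.card ↥(normalizer ((P : Subgroup G) : Set G)) = k := by
  have h := card_normalizer_mul P
  rw [hn, hG] at h
  exact Nat.eq_of_mul_eq_mul_right (by rw [← hn]; exact Nat.card_pos) h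

/-- Two distinct Sylow `p`-subgroups exist unless the Sylow subgroup is normal. -/
theorem normal_of_card_sylow_eq_one {p : ℕ} [Fact p.Prime] (h : Nat.card (Sylow p G) = 1)
    (P : Sylow p G) : (P : Subgroup G).Normal := by
  have : Subsingleton (Sylow p G) := (Nat.card_eq_one_iff_unique.mp h).1
  exact Sylow.normal_of_subsingleton P

section Simple

variable [IsSimpleGroup G]

/-- A simple group with commutative multiplication has prime order. -/
theorem prime_card_of_comm (h : IsMulCommutative G) : (Nat.card G).Prime := by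
  let _ : CommGroup G :=
    { ‹Group G› with mul_comm := isMulCommutative_iff.mp h }
  exact IsSimpleGroup.prime_card

theorem not_comm_of_not_prime (h : ¬ (Nat.card G).Prime) : ¬ IsMulCommutative G :=
  fun hc => h (prime_card_of_comm hc)

theorem eq_bot_of_normal {H : Subgroup G} (hn : H.Normal) (h : H ≠ ⊤) : H = ⊥ :=
  hn.eq_bot_or_eq_top.resolve_right h

theorem center_eq_bot_of_not_comm (hG : ¬ IsMulCommutative G) : center G = ⊥ := by
  refine eq_bot_of_normal inferInstance fun h => hG ?_
  refine isMulCommutative_iff.mpr fun a b => ?_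
  exact (mem_center_iff.mp (h ▸ mem_top a : a ∈ center G) b).symm

/-- A simple group that is a `p`-group is commutative. -/
theorem comm_of_isPGroup {p : ℕ} [Fact p.Prime] (h : IsPGroup p G) : IsMulCommutative G := by
  have hc : center G ≠ ⊥ := by
    have := h.center_nontrivial
    exact (Subgroup.nontrivial_iff_ne_bot _).mp this
  by_contra hG
  exact hc (center_eq_bot_of_not_comm hG)

/-- In a non-abelian simple group no Sylow subgroup is normal unless trivial. -/
theorem card_sylow_ne_one (hG : ¬ IsMulCommutative G) {p : ℕ} [Fact p.Prime]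
    (hp : p ∣ Nat.card G) : Nat.card (Sylow p G) ≠ 1 := by
  intro h
  obtain ⟨P⟩ := (inferInstance : Nonempty (Sylow p G))
  rcases (normal_of_card_sylow_eq_one h P).eq_bot_or_eq_top with h1 | h1
  · exact P.ne_bot_of_dvd_card hp h1
  · apply hG
    have hpg : IsPGroup p (⊤ : Subgroup G) := h1 ▸ P.2
    exact comm_of_isPGroup (hpg.of_equiv Subgroup.topEquiv)

/-- The index bound: the action on cosets of a proper subgroup is faithful. -/
theorem toPerm_injective {H : Subgroup G} (hH : H ≠ ⊤) :
    Function.Injective (MulAction.toPermHom G (G ⧸ H)) := by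
  rw [← MonoidHom.ker_eq_bot_iff, ← normalCore_eq_ker]
  refine eq_bot_of_normal inferInstance fun h => hH ?_
  exact top_le_iff.mp (h ▸ H.normalCore_le)

/-- Every homomorphism from a non-abelian simple group to a finite symmetric group
lands in the alternating group. -/
theorem sign_hom_eq_one (hG : ¬ IsMulCommutative G) {α : Type*} [Fintype α] [DecidableEq α]
    (f : G →* Equiv.Perm α) (g : G) : Equiv.Perm.sign (f g) = 1 := by
  set s : G →* ℤˣ := Equiv.Perm.sign.comp f
  rcases s.normal_ker.eq_bot_or_eq_top with h | h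
  · exfalso
    apply hG
    refine isMulCommutative_iff.mpr fun a b => (MonoidHom.ker_eq_bot_iff s).mp h ?_
    simp [mul_comm]
  · exact (h ▸ mem_top g : g ∈ s.ker)

/-- An injective action of a non-abelian simple group on `n ≥ 2` points forces `2 |G| ∣ n!`. -/
theorem two_mul_card_dvd_factorial (hG : ¬ IsMulCommutative G) {α : Type*} [Finite α]
    (f : G →* Equiv.Perm α) (hf : Function.Injective f) :
    2 * Nat.card G ∣ (Nat.card α).factorial := by
  classical
  have := Fintype.ofFinite α
  have hnt : Nontrivial α := by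
    by_contra h
    rw [not_nontrivial_iff_subsingleton] at h
    obtain ⟨a, b, hab⟩ := exists_pair_ne G
    exact hab (hf (Subsingleton.elim _ _))
  let f' : G →* alternatingGroup α :=
    f.codRestrict (alternatingGroup α) fun g => Equiv.Perm.mem_alternatingGroup.mpr
      (sign_hom_eq_one hG f g)
  have h1 : Nat.card G ∣ Nat.card (alternatingGroup α) :=
    card_dvd_of_injective f' fun a b hab => hf (congrArg Subtype.val hab)
  have h2 := two_mul_nat_card_alternatingGroup (α := α)
  rw [Nat.card_perm] at h2
  rw [← h2]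
  exact Nat.mul_dvd_mul_left 2 h1

/-- **Embedding theorem**: a proper subgroup of index `n` gives `2 |G| ∣ n!`. -/
theorem two_mul_card_dvd_index (hG : ¬ IsMulCommutative G) {H : Subgroup G} (hH : H ≠ ⊤) :
    2 * Nat.card G ∣ H.index.factorial :=
  two_mul_card_dvd_factorial hG _ (toPerm_injective hH)

theorem two_mul_card_dvd_sylow (hG : ¬ IsMulCommutative G) {p : ℕ} [Fact p.Prime]
    (hp : p ∣ Nat.card G) : 2 * Nat.card G ∣ (Nat.card (Sylow p G)).factorial := by
  obtain ⟨P⟩ := (inferInstance : Nonempty (Sylow p G))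
  rw [P.card_eq_index_normalizer]
  refine two_mul_card_dvd_index hG fun h => card_sylow_ne_one hG hp ?_
  rw [P.card_eq_index_normalizer, h, index_top]

/-- If `2 |G| ∤ k!` then every proper subgroup has index greater than `k`. -/
theorem lt_index_of_not_dvd (hG : ¬ IsMulCommutative G) {k : ℕ}
    (hk : ¬ 2 * Nat.card G ∣ k.factorial) {H : Subgroup G} (hH : H ≠ ⊤) : k < H.index := by
  by_contra h
  exact hk ((two_mul_card_dvd_index hG hH).trans (Nat.factorial_dvd_factorial (not_lt.mp h)))

/-- Burnside: in a non-abelian simple group no Sylow subgroup (for a prime divisor)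
is centralised by its normaliser. -/
theorem not_normalizer_le_centralizer (hG : ¬ IsMulCommutative G) {p : ℕ} [Fact p.Prime]
    (hp : p ∣ Nat.card G) (P : Sylow p G) :
    ¬ normalizer ((P : Subgroup G) : Set G) ≤ centralizer ((P : Subgroup G) : Set G) := by
  intro h
  have hk := MonoidHom.ker_transferSylow_isComplement' P h
  rcases (MonoidHom.transferSylow P h).normal_ker.eq_bot_or_eq_top with h1 | h1
  · have h2 := hk.card_mul
    rw [h1, card_bot, one_mul] at h2
    have h3 : (P : Subgroup G) = ⊤ := eq_top_of_card_eq _ h2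
    exact hG (comm_of_isPGroup ((h3 ▸ P.2 : IsPGroup p (⊤ : Subgroup G)).of_equiv
      Subgroup.topEquiv))
  · have h2 := hk.index_eq_card
    rw [h1, card_top] at h2
    have h3 : p ∣ Nat.card ↥(P : Subgroup G) := P.dvd_card_of_dvd_card hp
    exact P.not_dvd_index (h2 ▸ hp)

/-- In a non-abelian simple group a cyclic Sylow subgroup never belongs to the least prime. -/
theorem not_isCyclic_sylow_minFac (hG : ¬ IsMulCommutative G) {p : ℕ} [Fact p.Prime]
    (hp : (Nat.card G).minFac = p) (P : Sylow p G) : ¬ IsCyclic ↥(P : Subgroup G) := fun h =>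
  not_normalizer_le_centralizer hG (hp ▸ Nat.minFac_dvd _) P (h.normalizer_le_centralizer hp)

end Simple

section Intersection

variable {p : ℕ} [hp : Fact p.Prime]

/-- Under conjugation by `P`, the stabiliser of a Sylow subgroup `R` is `R ⊓ P`. -/
theorem stabilizer_sylow (P R : Sylow p G) :
    MulAction.stabilizer ↥(P : Subgroup G) R = (R : Subgroup G).subgroupOf (P : Subgroup G) := by
  ext g
  rw [MulAction.mem_stabilizer_iff, mem_subgroupOf]
  change (g : G) • R = R ↔ _
  rw [Sylow.smul_eq_iff_mem_normalizer]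
  refine ⟨fun h => ?_, fun h => le_normalizer h⟩
  have h1 : (g : G) ∈ (P : Subgroup G) ⊓ normalizer ((R : Subgroup G) : Set G) := ⟨g.2, h⟩
  have h2 : (P : Subgroup G) ⊓ normalizer ((R : Subgroup G) : Set G)
      = (P : Subgroup G) ⊓ (R : Subgroup G) := P.2.inf_normalizer_sylow R
  rw [h2] at h1
  exact h1.2

/-- If `n_p ≢ 1 (mod p ^ k)`, two distinct Sylow subgroups meet with index at most `p ^ (k-1)`. -/
theorem exists_small_index_inter (k : ℕ) (h : ¬ Nat.card (Sylow p G) ≡ 1 [MOD p ^ k]) :
    ∃ P R : Sylow p G, P ≠ R ∧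
      ((R : Subgroup G).subgroupOf (P : Subgroup G)).index ≤ p ^ (k - 1) := by
  classical
  obtain ⟨P⟩ := (inferInstance : Nonempty (Sylow p G))
  by_contra hne
  push_neg at hne
  apply h
  have := Fintype.ofFinite (Sylow p G)
  have := Fintype.ofFinite ↥(P : Subgroup G)
  have := Fintype.ofFinite (MulAction.orbitRel.Quotient ↥(P : Subgroup G) (Sylow p G))
  have horb : ∀ R : Sylow p G, R ≠ P → p ^ k ∣ Nat.card (MulAction.orbit ↥(P : Subgroup G) R) := by
    intro R hR
    have hc : Nat.card (MulAction.orbit ↥(P : Subgroup G) R)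
        = ((R : Subgroup G).subgroupOf (P : Subgroup G)).index := by
      rw [← stabilizer_sylow, MulAction.index_stabilizer, Nat.card_coe_set_eq]
    obtain ⟨j, hj⟩ := (P.2).index ((R : Subgroup G).subgroupOf (P : Subgroup G))
    have hlt := hne P R (Ne.symm hR)
    rw [hc, hj]
    rw [hj] at hlt
    have := (Nat.pow_lt_pow_iff_right hp.out.one_lt).mp hlt
    exact pow_dvd_pow p (by omega)
  have hPfix : MulAction.orbit ↥(P : Subgroup G) P = {P} := by
    ext R
    simp only [MulAction.mem_orbit_iff, Set.mem_singleton_iff]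
    constructor
    · rintro ⟨g, rfl⟩
      exact Sylow.smul_eq_iff_mem_normalizer.mpr (le_normalizer g.2)
    · rintro rfl
      exact ⟨1, one_smul _ _⟩
  have key : Fintype.card (Sylow p G) =
      ∑ ω : MulAction.orbitRel.Quotient ↥(P : Subgroup G) (Sylow p G),
        Nat.card ω.orbit := by
    rw [Fintype.card_congr (MulAction.selfEquivSigmaOrbits' ↥(P : Subgroup G) (Sylow p G)),
      Fintype.card_sigma]
    exact Finset.sum_congr rfl fun ω _ => (Nat.card_eq_fintype_card).symm
  rw [Nat.card_eq_fintype_card, key]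
  set ω₀ : MulAction.orbitRel.Quotient ↥(P : Subgroup G) (Sylow p G) := Quotient.mk'' P
  rw [← Finset.add_sum_erase _ _ (Finset.mem_univ ω₀)]
  have h0 : Nat.card ω₀.orbit = 1 := by
    rw [MulAction.orbitRel.Quotient.orbit_mk, hPfix]
    simp
  rw [h0]
  have h1 : p ^ k ∣ ∑ ω ∈ Finset.univ.erase ω₀, Nat.card ω.orbit := by
    refine Finset.dvd_sum fun ω hω => ?_
    induction ω using Quotient.inductionOn' with
    | h R =>
      rw [MulAction.orbitRel.Quotient.orbit_mk]
      refine horb R ?_
      rintro rfl
      exact Finset.ne_of_mem_erase hω rfl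
  conv_rhs => rw [← add_zero 1]
  exact (Nat.ModEq.refl 1).add (Nat.modEq_zero_iff_dvd.mpr h1)

/-- For a prime order Sylow `p`-subgroup `P`, `|N(P) : C(P)|` divides `p - 1`. -/
theorem relIndex_centralizer_dvd_of_prime (P : Subgroup G) (hP : Nat.card P = p) :
    (centralizer (P : Set G)).relIndex (normalizer (P : Set G)) ∣ p - 1 := by
  have key := card_dvd_of_injective _ (QuotientGroup.kerLift_injective P.normalizerMonoidHom)
  rw [normalizerMonoidHom_ker, ← index, ← relIndex] at key
  have hc : IsCyclic P := isCyclic_of_prime_card hP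
  rwa [hc.card_mulAut, hP, Nat.totient_prime hp.out] at key

end Intersection

end Cfsg.Agent.SmallGroups
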