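import Cfsg.Agent.Lib.SmallGroups.Basic
import Mathlib.GroupTheory.Perm.Cycle.Type
import Mathlib.GroupTheory.GroupAction.ConjAct
import Mathlib.GroupTheory.GroupAction.Quotient

/-!
# Fixed points on coset spaces, parity of involutions, Sylow subgroups of prime order
-/

set_option autoImplicit false

namespace Cfsg.Agent.SmallGroups

open Subgroup

variable {G : Type*} [Group G] [Finite G]

/-- The number of elements of a conjugacy class times the centraliser order is `|G|`. -/
theorem card_conj_mul_centralizer (x : G) :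
    Nat.card {g : G // IsConj x g} * Nat.card ↥(centralizer ({x} : Set G)) = Nat.card G := by
  have h1 : Nat.card {g : G // IsConj x g} = Nat.card (MulAction.orbit (ConjAct G) x) := by
    refine Nat.card_congr (Equiv.subtypeEquivRight fun g => ?_)
    rw [ConjAct.mem_orbit_conjAct]
    exact isConj_comm
  have h2 : Nat.card ↥(centralizer ({x} : Set G)) =
      Nat.card ↥(MulAction.stabilizer (ConjAct G) x) := by
    refine Nat.card_congr (ConjAct.toConjAct.toEquiv.subtypeEquiv fun g => ?_)
    rw [MulAction.mem_stabilizer_iff, mem_centralizer_singleton_iff]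
    change _ ↔ ConjAct.toConjAct g • x = x
    rw [ConjAct.toConjAct_smul, mul_inv_eq_iff_eq_mul]
  rw [h1, h2, Nat.card_coe_set_eq, ← MulAction.index_stabilizer, index_mul_card]
  exact Nat.card_congr ConjAct.ofConjAct.toEquiv

theorem mk_mem_fixedBy_iff (H : Subgroup G) (x g : G) :
    (g : G ⧸ H) ∈ MulAction.fixedBy (G ⧸ H) x ↔ g⁻¹ * x * g ∈ H := by
  rw [MulAction.mem_fixedBy, MulAction.Quotient.smul_mk, QuotientGroup.eq, smul_eq_mul,
    ← inv_mem_iff]
  have : ((x * g)⁻¹ * g)⁻¹ = g⁻¹ * x * g := by group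
  rw [this]

/-- Fusion count: `|fix x| · |x^G| = |G : H| · |x^G ∩ H|`. -/
theorem card_fixedBy_mul (H : Subgroup G) (x : G) :
    Nat.card (MulAction.fixedBy (G ⧸ H) x) * Nat.card {g : G // IsConj x g}
      = H.index * Nat.card {g : G // IsConj x g ∧ g ∈ H} := by
  classical
  have := Fintype.ofFinite G
  have hA : Nat.card {g : G // g⁻¹ * x * g ∈ H} =
      Nat.card H * Nat.card (MulAction.fixedBy (G ⧸ H) x) := by
    rw [← QuotientGroup.card_preimage_mk]
    exact Nat.card_congr (Equiv.subtypeEquivRight fun g => (mk_mem_fixedBy_iff H x g).symm)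
  have hB : Nat.card {g : G // g⁻¹ * x * g ∈ H} =
      Nat.card {g : G // IsConj x g ∧ g ∈ H} * Nat.card ↥(centralizer ({x} : Set G)) := by
    let f : {g : G // g⁻¹ * x * g ∈ H} → {g : G // IsConj x g ∧ g ∈ H} := fun g =>
      ⟨g.1⁻¹ * x * g.1, isConj_iff.mpr ⟨g.1⁻¹, by group⟩, g.2⟩
    have hfib : ∀ y : {g : G // IsConj x g ∧ g ∈ H},
        Nat.card {g // f g = y} = Nat.card ↥(centralizer ({x} : Set G)) := by
      rintro ⟨y, hy, hyH⟩
      obtain ⟨c, rfl⟩ := isConj_iff.mp hy
      refine Nat.card_congr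
        { toFun := fun g => ⟨g.1.1 * c, mem_centralizer_singleton_iff.mpr ?_⟩
          invFun := fun z => ⟨⟨z.1 * c⁻¹, ?_⟩, ?_⟩
          left_inv := fun g => by ext; simp
          right_inv := fun z => by ext; simp }
      · have h : g.1.1⁻¹ * x * g.1.1 = c * x * c⁻¹ := congrArg Subtype.val g.2
        calc g.1.1 * c * x = g.1.1 * (c * x * c⁻¹) * c := by group
          _ = g.1.1 * (g.1.1⁻¹ * x * g.1.1) * c := by rw [h]
          _ = x * (g.1.1 * c) := by group
      · have hz := mem_centralizer_singleton_iff.mp z.2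
        have : (z.1 * c⁻¹)⁻¹ * x * (z.1 * c⁻¹) = c * x * c⁻¹ := by
          calc (z.1 * c⁻¹)⁻¹ * x * (z.1 * c⁻¹) = c * z.1⁻¹ * (x * z.1) * c⁻¹ := by group
            _ = c * z.1⁻¹ * (z.1 * x) * c⁻¹ := by rw [hz]
            _ = c * x * c⁻¹ := by group
        rw [this]; exact hyH
      · have hz := mem_centralizer_singleton_iff.mp z.2
        refine Subtype.ext ?_
        calc (z.1 * c⁻¹)⁻¹ * x * (z.1 * c⁻¹) = c * z.1⁻¹ * (x * z.1) * c⁻¹ := by group
            _ = c * z.1⁻¹ * (z.1 * x) * c⁻¹ := by rw [hz]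
            _ = c * x * c⁻¹ := by group
    rw [← Nat.card_congr (Equiv.sigmaFiberEquiv f), Nat.card_sigma,
      Finset.sum_congr rfl (fun y _ => hfib y), Finset.sum_const, Finset.card_univ, smul_eq_mul]
    simp only [Nat.card_eq_fintype_card]
  refine Nat.eq_of_mul_eq_mul_right (Nat.card_pos (α := ↥(centralizer ({x} : Set G)))) ?_
  rw [mul_assoc, card_conj_mul_centralizer, mul_assoc, ← hB, hA, ← H.card_mul_index]
  ring

/-- An even permutation squaring to `1` moves a multiple of four points. -/
theorem four_dvd_card_support {α : Type*} [Fintype α] [DecidableEq α] {σ : Equiv.Perm α}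
    (h2 : σ ^ 2 = 1) (hs : Equiv.Perm.sign σ = 1) : 4 ∣ σ.support.card := by
  have hall : ∀ n ∈ σ.cycleType, n = 2 := fun n hn => by
    have h1 : n ∣ 2 :=
      (Equiv.Perm.dvd_of_mem_cycleType hn).trans (orderOf_dvd_of_pow_eq_one h2)
    exact le_antisymm (Nat.le_of_dvd two_pos h1) (Equiv.Perm.two_le_of_mem_cycleType hn)
  have hrep : σ.cycleType = Multiset.replicate σ.cycleType.card 2 :=
    Multiset.eq_replicate_card.mpr hall
  rw [← Equiv.Perm.sum_cycleType]
  rw [Equiv.Perm.sign_of_cycleType] at hs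
  rw [hrep, Multiset.sum_replicate, Multiset.card_replicate, smul_eq_mul,
    neg_one_pow_eq_one_iff_even (by decide), Nat.even_add] at hs
  rw [hrep, Multiset.sum_replicate, smul_eq_mul]
  obtain ⟨j, hj⟩ : Even σ.cycleType.card := hs.mp (even_two.mul_left _)
  omega

/-- An involution in a non-abelian simple group fixes `n` modulo `4` points out of `n`. -/
theorem four_dvd_moved [IsSimpleGroup G] (hG : ¬ IsMulCommutative G) {α : Type*} [Finite α]
    [MulAction G α] {t : G} (ht : t ^ 2 = 1) :
    4 ∣ Nat.card α - Nat.card (MulAction.fixedBy α t) := by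
  classical
  have := Fintype.ofFinite α
  have h := four_dvd_card_support (σ := MulAction.toPermHom G α t)
    (by rw [← map_pow, ht, map_one]) (sign_hom_eq_one hG _ t)
  have h1 : Nat.card (MulAction.fixedBy α t) =
      (MulAction.toPermHom G α t).supportᶜ.card := by
    rw [← Nat.card_eq_finsetCard]
    refine Nat.card_congr (Equiv.subtypeEquivRight fun a => ?_)
    simp [MulAction.mem_fixedBy]
  rw [h1, Finset.card_compl, Nat.card_eq_fintype_card]
  have h2 : (MulAction.toPermHom G α t).support.card ≤ Fintype.card α := Finset.card_le_univ _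
  rwa [Nat.sub_sub_self h2]

section PrimeSylow

variable {p : ℕ} [hp : Fact p.Prime] (P : Sylow p G)

/-- A Sylow subgroup of order `p` normalised by a conjugate of itself equals it. -/
theorem map_conj_le_normalizer_iff (hP : Nat.card ↥(P : Subgroup G) = p) {y : G}
    (hy : y ∈ (P : Subgroup G)) (hy1 : y ≠ 1) (g : G) :
    g⁻¹ * y * g ∈ normalizer ((P : Subgroup G) : Set G) ↔
      g ∈ normalizer ((P : Subgroup G) : Set G) := by
  have hzp : Subgroup.zpowers y = (P : Subgroup G) :=
    eq_of_le_of_card_ge (zpowers_le.mpr hy) (by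
      rw [hP, Nat.card_zpowers]
      have h1 : orderOf y ∣ p := hP ▸ orderOf_dvd_natCard _ hy
      rcases (Nat.dvd_prime hp.out).mp h1 with h | h
      · exact absurd (orderOf_eq_one_iff.mp h) hy1
      · exact h.ge)
  constructor
  · intro h
    have hle : ((g⁻¹ • P : Sylow p G) : Subgroup G) ≤ normalizer ((P : Subgroup G) : Set G) := by
      rw [Sylow.coe_subgroup_smul, Subgroup.pointwise_smul_def]
      rintro z ⟨w, hw, rfl⟩
      obtain ⟨k, rfl⟩ := mem_zpowers_iff.mp (hzp ▸ hw : w ∈ zpowers y)
      change MulAut.conj g⁻¹ (y ^ k) ∈ _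
      rw [map_zpow]
      exact zpow_mem (by simpa [mul_assoc] using h) k
    have heq : g⁻¹ • P = P := by
      refine Sylow.ext (eq_of_le_of_card_ge ?_ (Nat.le_of_eq (Nat.card_congr
        (Sylow.equiv P (g⁻¹ • P)).toEquiv)))
      have h1 := ((g⁻¹ • P : Sylow p G).2).inf_normalizer_sylow P
      exact (le_inf le_rfl hle).trans (h1.le.trans inf_le_right)
    have := Sylow.smul_eq_iff_mem_normalizer.mp heq
    exact (inv_mem_iff).mp this
  · intro h
    exact mul_mem (mul_mem (inv_mem h) (le_normalizer hy)) h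

/-- An element of order `p` of `P` fixes only the base point of `G ⧸ N(P)`. -/
theorem fixedBy_eq_base (hP : Nat.card ↥(P : Subgroup G) = p) {y : G}
    (hy : y ∈ (P : Subgroup G)) (hy1 : y ≠ 1) :
    MulAction.fixedBy (G ⧸ normalizer ((P : Subgroup G) : Set G)) y = {((1 : G) : G ⧸ _)} := by
  ext q
  induction q using QuotientGroup.induction_on with
  | _ g =>
    rw [mk_mem_fixedBy_iff, map_conj_le_normalizer_iff P hP hy hy1, Set.mem_singleton_iff,
      QuotientGroup.eq, mul_one, inv_mem_iff]

/-- Two fixed points of `x ∈ N(P) \ C(P)` on `G ⧸ N(P)` in one `P`-orbit coincide. -/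
theorem fixedBy_orbit_injective (hP : Nat.card ↥(P : Subgroup G) = p) {x : G}
    (hx : x ∈ normalizer ((P : Subgroup G) : Set G))
    (hxc : x ∉ centralizer ((P : Subgroup G) : Set G)) :
    Function.Injective (fun a : MulAction.fixedBy
        (G ⧸ normalizer ((P : Subgroup G) : Set G)) x =>
      (Quotient.mk'' a.1 : MulAction.orbitRel.Quotient ↥(P : Subgroup G)
        (G ⧸ normalizer ((P : Subgroup G) : Set G)))) := by
  rintro ⟨a, ha⟩ ⟨b, hb⟩ hab
  obtain ⟨⟨u, hu⟩, rfl⟩ := Quotient.exact' hab.symm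
  refine Subtype.ext ?_
  change a = u • a
  rw [MulAction.mem_fixedBy] at ha hb
  change x • u • a = u • a at hb
  set v : G := u⁻¹ * (x * u * x⁻¹) with hv
  have hva : v • a = a := by
    rw [hv, mul_smul, mul_smul, mul_smul,
      show x⁻¹ • a = a from inv_smul_eq_iff.mpr ha.symm, hb, inv_smul_smul]
  have hvP : v ∈ (P : Subgroup G) :=
    mul_mem (inv_mem hu) ((mem_normalizer_iff.mp hx u).mp hu)
  by_cases hv1 : v = 1
  · by_cases hu1 : u = 1
    · rw [hu1, one_smul]
    · exfalso
      have hcomm : x * u = u * x := by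
        have h1 : x * u * x⁻¹ = u := by
          rw [hv, inv_mul_eq_one] at hv1
          exact hv1.symm
        exact mul_inv_eq_iff_eq_mul.mp h1
      apply hxc
      have hzp : Subgroup.zpowers u = (P : Subgroup G) :=
        eq_of_le_of_card_ge (zpowers_le.mpr hu) (by
          rw [hP, Nat.card_zpowers]
          have h1 : orderOf u ∣ p := hP ▸ orderOf_dvd_natCard _ hu
          rcases (Nat.dvd_prime hp.out).mp h1 with h | h
          · exact absurd (orderOf_eq_one_iff.mp h) hu1
          · exact h.ge)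
      rw [mem_centralizer_iff]
      intro z hz
      rw [SetLike.mem_coe, ← hzp, mem_zpowers_iff] at hz
      obtain ⟨k, rfl⟩ := hz
      exact ((Commute.symm (show Commute x u from hcomm)).zpow_left k).eq
  · have hbase : a = ((1 : G) : G ⧸ _) := by
      have h1 : a ∈ MulAction.fixedBy _ v := hva
      rwa [fixedBy_eq_base P hP hvP hv1] at h1
    rw [hbase, MulAction.Quotient.smul_mk, QuotientGroup.eq, inv_one, one_mul, smul_eq_mul,
      mul_one]
    exact le_normalizer hu

/-- The orbits of a Sylow subgroup of order `p` on its `n_p` conjugates. -/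
theorem card_orbits_mul (hP : Nat.card ↥(P : Subgroup G) = p) :
    (Nat.card (MulAction.orbitRel.Quotient ↥(P : Subgroup G)
      (G ⧸ normalizer ((P : Subgroup G) : Set G))) - 1) * p + 1 = Nat.card (Sylow p G) := by
  classical
  set N := normalizer ((P : Subgroup G) : Set G)
  have := Fintype.ofFinite (G ⧸ N)
  have := Fintype.ofFinite ↥(P : Subgroup G)
  have := Fintype.ofFinite (MulAction.orbitRel.Quotient ↥(P : Subgroup G) (G ⧸ N))
  let ω₀ : MulAction.orbitRel.Quotient ↥(P : Subgroup G) (G ⧸ N) := Quotient.mk'' ((1 : G) : G ⧸ N)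
  have h0 : Nat.card ω₀.orbit = 1 := by
    rw [MulAction.orbitRel.Quotient.orbit_mk]
    have : MulAction.orbit ↥(P : Subgroup G) ((1 : G) : G ⧸ N) = {((1 : G) : G ⧸ N)} := by
      ext q
      simp only [MulAction.mem_orbit_iff, Set.mem_singleton_iff]
      constructor
      · rintro ⟨⟨u, hu⟩, rfl⟩
        change ((u * 1 : G) : G ⧸ N) = _
        rw [QuotientGroup.eq]
        exact mul_mem (inv_mem (mul_mem (le_normalizer hu) (one_mem _))) (one_mem _)
      · rintro rfl
        exact ⟨1, one_smul _ _⟩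
    simp [this]
  have h1 : ∀ ω ∈ Finset.univ.erase ω₀, Nat.card ω.orbit = p := by
    intro ω hω
    induction ω using Quotient.inductionOn' with
    | h a =>
      rw [MulAction.orbitRel.Quotient.orbit_mk]
      obtain ⟨j, hj⟩ := P.2.card_orbit a
      have hdvd : Nat.card (MulAction.orbit ↥(P : Subgroup G) a) ∣ p := by
        have h2 := index_dvd_card (MulAction.stabilizer ↥(P : Subgroup G) a)
        rwa [hP, MulAction.index_stabilizer, ← Nat.card_coe_set_eq] at h2
      refine ((Nat.dvd_prime hp.out).mp hdvd).resolve_left fun h => ?_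
      have : Subsingleton (MulAction.orbit ↥(P : Subgroup G) a) :=
        (Nat.card_eq_one_iff_unique.mp h).1
      obtain ⟨y, hy, hy1⟩ : ∃ y ∈ (P : Subgroup G), y ≠ 1 := by
        by_contra hc
        push_neg at hc
        have : (P : Subgroup G) = ⊥ := (eq_bot_iff_forall _).mpr hc
        rw [this, card_bot] at hP
        exact hp.out.ne_one hP.symm
      have hfix : a ∈ MulAction.fixedBy (G ⧸ N) y :=
        congrArg Subtype.val (Subsingleton.elim
          (⟨(⟨y, hy⟩ : ↥(P : Subgroup G)) • a, MulAction.mem_orbit _ _⟩ :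
            MulAction.orbit ↥(P : Subgroup G) a) ⟨a, MulAction.mem_orbit_self _⟩)
      rw [fixedBy_eq_base P hP hy hy1, Set.mem_singleton_iff] at hfix
      exact Finset.ne_of_mem_erase hω (by rw [hfix])
  have key : Fintype.card (G ⧸ N) =
      ∑ ω : MulAction.orbitRel.Quotient ↥(P : Subgroup G) (G ⧸ N), Nat.card ω.orbit := by
    rw [Fintype.card_congr (MulAction.selfEquivSigmaOrbits' ↥(P : Subgroup G) (G ⧸ N)),
      Fintype.card_sigma]
    exact Finset.sum_congr rfl fun ω _ => (Nat.card_eq_fintype_card).symm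
  rw [← Finset.add_sum_erase _ _ (Finset.mem_univ ω₀), h0, Finset.sum_congr rfl h1,
    Finset.sum_const, Finset.card_erase_of_mem (Finset.mem_univ _), Finset.card_univ,
    smul_eq_mul] at key
  rw [P.card_eq_card_quotient_normalizer, Nat.card_eq_fintype_card, Nat.card_eq_fintype_card]
  exact (key.trans (add_comm _ _)).symm

/-- Parity test: for a non-abelian simple group with `|P| = p` and `n_p = 1 + n p`, an involution
of `N(P) \ C(P)` fixes `f ≤ n + 1` points with `4 ∣ n_p - f`. -/
theorem exists_fixed_count [IsSimpleGroup G] (hG : ¬ IsMulCommutative G)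
    (hP : Nat.card ↥(P : Subgroup G) = p) {x : G}
    (hx : x ∈ normalizer ((P : Subgroup G) : Set G))
    (hxc : x ∉ centralizer ((P : Subgroup G) : Set G)) (hx2 : x ^ 2 = 1) :
    ∃ f, 1 ≤ f ∧ (f - 1) * p + 1 ≤ Nat.card (Sylow p G) ∧
      4 ∣ Nat.card (Sylow p G) - f := by
  classical
  set N := normalizer ((P : Subgroup G) : Set G)
  refine ⟨Nat.card (MulAction.fixedBy (G ⧸ N) x), ?_, ?_, ?_⟩
  · have : Nonempty (MulAction.fixedBy (G ⧸ N) x) :=
      ⟨⟨((1 : G) : G ⧸ N), (mk_mem_fixedBy_iff N x 1).mpr (by simpa using hx)⟩⟩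
    exact Nat.card_pos
  · rw [← card_orbits_mul P hP]
    have h := Nat.card_le_card_of_injective _ (fixedBy_orbit_injective P hP hx hxc)
    exact Nat.add_le_add_right (Nat.mul_le_mul_right _ (Nat.sub_le_sub_right h 1)) 1
  · rw [P.card_eq_card_quotient_normalizer]
    exact four_dvd_moved hG hx2

end PrimeSylow

end Cfsg.Agent.SmallGroups
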