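import Cfsg.Agent.Lib.SmallGroups.Action
import Mathlib.GroupTheory.Sylow
import Mathlib.GroupTheory.GroupAction.FixedPoints

/-!
# Congruences around a Sylow subgroup of prime order
-/

set_option autoImplicit false

namespace Cfsg.Agent.SmallGroups

open Subgroup MulAction

variable {G : Type*} [Group G] [Finite G] {p : ℕ} [hp : Fact p.Prime]

/-- An element of `q`-power order fixes `|X|` points modulo `q`. -/
theorem card_fixedBy_modEq_card {q : ℕ} [Fact q.Prime] {α : Type*} [Finite α] [MulAction G α]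
    {x : G} {i : ℕ} (hx : x ^ q ^ i = 1) :
    Nat.card (fixedBy α x) ≡ Nat.card α [MOD q] := by
  have hq : IsPGroup q ↥(zpowers x) := by
    obtain ⟨j, -, hj⟩ := (Nat.dvd_prime_pow Fact.out).mp (orderOf_dvd_of_pow_eq_one hx)
    exact IsPGroup.of_card (n := j) ((Nat.card_zpowers x).trans hj)
  have h := hq.card_modEq_card_fixedPoints α
  have he : Nat.card (fixedPoints ↥(zpowers x) α) = Nat.card (fixedBy α x) := by
    refine Nat.card_congr (Equiv.subtypeEquivRight fun a => ⟨fun ha => ha ⟨x, mem_zpowers x⟩,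
      fun ha g => ?_⟩)
    obtain ⟨g, k, rfl⟩ := g
    show x ^ k • a = a
    exact mem_fixedBy_zpow ha k
  rw [he] at h
  exact h.symm

/-- An element centralising `P` fixes `1` modulo `p` points on `G ⧸ N(P)`. -/
theorem card_fixedBy_modEq_one (P : Sylow p G) (hP : Nat.card ↥(P : Subgroup G) = p) {x : G}
    (hx : x ∈ centralizer ((P : Subgroup G) : Set G)) :
    Nat.card (fixedBy (G ⧸ normalizer ((P : Subgroup G) : Set G)) x) ≡ 1 [MOD p] := by
  set N := normalizer ((P : Subgroup G) : Set G)
  let S := fixedBy (G ⧸ N) x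
  let act : MulAction ↥(P : Subgroup G) S :=
    { smul := fun u a => ⟨u • a.1, by
        rw [mem_fixedBy]
        show x • (u : G) • a.1 = (u : G) • a.1
        rw [← mul_smul, ← mem_centralizer_iff.mp hx u u.2, mul_smul, a.2]⟩
      one_smul := fun a => Subtype.ext (one_smul _ a.1)
      mul_smul := fun u v a => Subtype.ext (mul_smul u v a.1) }
  have h := (IsPGroup.of_card (G := ↥(P : Subgroup G)) (n := 1)
    (hP.trans (pow_one p).symm)).card_modEq_card_fixedPoints S
  have hb : ((1 : G) : G ⧸ N) ∈ S := by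
    rw [mk_mem_fixedBy_iff, inv_one, one_mul, mul_one]
    exact centralizer_le_normalizer _ hx
  obtain ⟨y, hy, hy1⟩ : ∃ y ∈ (P : Subgroup G), y ≠ 1 := by
    by_contra hc
    push_neg at hc
    have h0 : (P : Subgroup G) = ⊥ := (eq_bot_iff_forall _).mpr hc
    rw [h0, card_bot] at hP
    exact hp.out.ne_one hP.symm
  have he : Nat.card (fixedPoints ↥(P : Subgroup G) S) = 1 := by
    rw [Nat.card_eq_one_iff_exists]
    refine ⟨⟨⟨_, hb⟩, fun u => Subtype.ext ?_⟩, fun a => Subtype.ext (Subtype.ext ?_)⟩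
    · show (u : G) • ((1 : G) : G ⧸ N) = ((1 : G) : G ⧸ N)
      rw [MulAction.Quotient.smul_mk, smul_eq_mul, mul_one, QuotientGroup.eq, mul_one]
      exact inv_mem (le_normalizer u.2)
    · have h1 : y • a.1.1 = a.1.1 := congrArg Subtype.val (a.2 ⟨y, hy⟩)
      have h2 : a.1.1 ∈ fixedBy (G ⧸ N) y := h1
      rwa [fixedBy_eq_base P hP hy hy1, Set.mem_singleton_iff] at h2
  rwa [he] at h

/-- The number of conjugates of `P` inside a subgroup containing it is `1` modulo `p`. -/
theorem index_normalizer_subgroupOf_modEq (P : Sylow p G) {D : Subgroup G}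
    (hPD : (P : Subgroup G) ≤ D) :
    ((normalizer ((P : Subgroup G) : Set G)).subgroupOf D).index ≡ 1 [MOD p] := by
  have h1 := card_sylow_modEq_one p ↥D
  rw [(P.subtype hPD).card_eq_index_normalizer] at h1
  rw [subgroupOf_normalizer_eq hPD]
  exact h1

end Cfsg.Agent.SmallGroups
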