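import Cfsg.Agent.Lib.SmallGroups.Basic

/-!
# Counting elements of prime order, and numerical eliminations
-/

set_option autoImplicit false

namespace Cfsg.Agent.SmallGroups

open Subgroup

variable {G : Type*} [Group G] [Finite G] {p : ℕ} [hp : Fact p.Prime]

/-- A nontrivial element of a group of prime order generates it. -/
theorem zpowers_eq_of_card_prime {H : Subgroup G} (hH : Nat.card H = p) {y : G} (hy : y ∈ H)
    (hy1 : y ≠ 1) : zpowers y = H := by
  refine eq_of_le_of_card_ge (zpowers_le.mpr hy) ?_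
  rw [hH, Nat.card_zpowers]
  rcases (Nat.dvd_prime hp.out).mp (hH ▸ orderOf_dvd_natCard H hy) with h | h
  · exact absurd (orderOf_eq_one_iff.mp h) hy1
  · exact h.ge

theorem orderOf_of_card_prime {H : Subgroup G} (hH : Nat.card H = p) {y : G} (hy : y ∈ H)
    (hy1 : y ≠ 1) : orderOf y = p := by
  rw [← Nat.card_zpowers, zpowers_eq_of_card_prime hH hy hy1, hH]

/-- Every element of order `p` lies in a Sylow `p`-subgroup. -/
theorem exists_mem_sylow {y : G} (hy : orderOf y = p) : ∃ P : Sylow p G, y ∈ (P : Subgroup G) := by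
  obtain ⟨P, hP⟩ := (IsPGroup.of_card (n := 1)
    (((Nat.card_zpowers y).trans hy).trans (pow_one p).symm)).exists_le_sylow
  exact ⟨P, hP (mem_zpowers y)⟩

/-- With Sylow subgroups of order `p`, there are `n_p (p - 1)` elements of order `p`. -/
theorem card_orderOf_eq (hP : ∀ P : Sylow p G, Nat.card ↥(P : Subgroup G) = p) :
    Nat.card {g : G // orderOf g = p} = Nat.card (Sylow p G) * (p - 1) := by
  classical
  have := Fintype.ofFinite (Sylow p G)
  let f : (Σ P : Sylow p G, {y : ↥(P : Subgroup G) // y ≠ 1}) → {g : G // orderOf g = p} :=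
    fun x => ⟨x.2.1.1, orderOf_of_card_prime (hP x.1) x.2.1.2
      fun h => x.2.2 (Subtype.ext h)⟩
  have hbij : Function.Bijective f := by
    constructor
    · rintro ⟨P, ⟨⟨y, hy⟩, hy1⟩⟩ ⟨Q, ⟨⟨z, hz⟩, hz1⟩⟩ h
      have hyz : y = z := congrArg Subtype.val h
      subst hyz
      have hy1' : y ≠ 1 := fun hh => hy1 (Subtype.ext hh)
      have hPQ : P = Q := Sylow.ext
        ((zpowers_eq_of_card_prime (hP P) hy hy1').symm.trans
          (zpowers_eq_of_card_prime (hP Q) hz hy1'))
      subst hPQ
      rfl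
    · rintro ⟨g, hg⟩
      obtain ⟨P, hgP⟩ := exists_mem_sylow hg
      refine ⟨⟨P, ⟨⟨g, hgP⟩, fun h => ?_⟩⟩, rfl⟩
      have : g = 1 := congrArg Subtype.val h
      rw [this, orderOf_one] at hg
      exact hp.out.ne_one hg.symm
  rw [← Nat.card_congr (Equiv.ofBijective f hbij), Nat.card_sigma,
    Finset.sum_congr rfl (fun P _ => ?_), Finset.sum_const, Finset.card_univ, smul_eq_mul,
    Nat.card_eq_fintype_card]
  have h := hP P
  have := Fintype.ofFinite ↥(P : Subgroup G)
  rw [Nat.card_eq_fintype_card] at h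
  rw [Nat.card_eq_fintype_card, Fintype.card_subtype_compl, h, Fintype.card_subtype_eq]

/-- For `|P| = p`: the index `k = |N(P) : C(P)|` divides `p - 1` and `|N(P)|`. -/
theorem relIndex_dvd_normalizer (P : Sylow p G) :
    (centralizer ((P : Subgroup G) : Set G)).relIndex (normalizer ((P : Subgroup G) : Set G))
      ∣ Nat.card ↥(normalizer ((P : Subgroup G) : Set G)) :=
  relIndex_dvd_card ..

/-- In a non-abelian simple group with `|P| = p`, `|N(P)|` is not prime to `p - 1`. -/
theorem not_coprime_normalizer [IsSimpleGroup G] (hG : ¬ IsMulCommutative G) (P : Sylow p G)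
    (hP : Nat.card ↥(P : Subgroup G) = p) :
    ¬ Nat.Coprime (Nat.card ↥(normalizer ((P : Subgroup G) : Set G))) (p - 1) := by
  intro h
  have hdvd : p ∣ Nat.card G := by
    have := card_subgroup_dvd_card (P : Subgroup G)
    rwa [hP] at this
  refine not_normalizer_le_centralizer hG hdvd P (relIndex_eq_one.mp ?_)
  exact Nat.eq_one_of_dvd_coprimes h (relIndex_dvd_normalizer P)
    (relIndex_centralizer_dvd_of_prime _ hP)

end Cfsg.Agent.SmallGroups
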