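import Cfsg.Agent.Lib.SmallGroups.Action
import Cfsg.Agent.Lib.SmallGroups.Counting
import Cfsg.Agent.S1012
import Mathlib.GroupTheory.SpecificGroups.Dihedral
import Mathlib.GroupTheory.SpecificGroups.KleinFour

/-!
# Simple groups of order 168
-/

set_option autoImplicit false

namespace Cfsg.Agent.SmallGroups

open Subgroup

/-- A group of order 8 with a non-central involution is isomorphic to a Sylow 2-subgroup of
`S₄`. -/
theorem sylow_perm4_of_card_eight {T : Type*} [Group T] [Finite T] (hT : Nat.card T = 8)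
    (s : T) (hs : orderOf s = 2) (hsc : s ∉ center T) :
    ∃ S : Sylow 2 (Equiv.Perm (Fin 4)), Nonempty (T ≃* ↥(S : Subgroup (Equiv.Perm (Fin 4)))) := by
  have : Fact (Nat.Prime 2) := ⟨Nat.prime_two⟩
  have hz : Nat.card ↥(zpowers s) = 2 := (Nat.card_zpowers s).trans hs
  have hidx : (zpowers s).index = 4 := by
    have := (zpowers s).card_mul_index
    rw [hz, hT] at this; omega
  have hker : (MulAction.toPermHom T (T ⧸ zpowers s)).ker = ⊥ := by
    rw [← normalCore_eq_ker]
    have hle := (zpowers s).normalCore_le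
    have hd : Nat.card ↥(zpowers s).normalCore ∣ 2 := hz ▸ card_dvd_of_le hle
    rcases (Nat.dvd_prime Nat.prime_two).mp hd with h | h
    · exact card_eq_one.mp h
    · exfalso
      have heq : (zpowers s).normalCore = zpowers s := eq_of_le_of_card_ge hle (by rw [hz, h])
      apply hsc
      rw [mem_center_iff]
      intro t
      have hmem : t * s * t⁻¹ ∈ zpowers s :=
        heq ▸ (normalCore_normal _).conj_mem s (heq.ge (mem_zpowers s)) t
      have hu := (Nat.card_eq_two_iff' (1 : ↥(zpowers s))).mp hz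
      have hne : (⟨t * s * t⁻¹, hmem⟩ : ↥(zpowers s)) ≠ 1 := by
        intro h1
        have h2 := congrArg Subtype.val h1
        simp only [OneMemClass.coe_one, conj_eq_one_iff] at h2
        rw [h2, orderOf_one] at hs
        exact absurd hs (by norm_num)
      have := congrArg Subtype.val (hu.unique hne (y₂ := ⟨s, mem_zpowers s⟩) (fun h1 => by
        rw [show s = 1 from congrArg Subtype.val h1, orderOf_one] at hs
        exact absurd hs (by norm_num)))
      exact mul_inv_eq_iff_eq_mul.mp this
  let e : T ⧸ zpowers s ≃ Fin 4 :=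
    (Finite.equivFinOfCardEq (by rw [← index_eq_card, hidx]))
  set φ : T →* Equiv.Perm (Fin 4) :=
    e.permCongrHom.toMonoidHom.comp (MulAction.toPermHom T (T ⧸ zpowers s))
  have hφ : Function.Injective φ :=
    e.permCongrHom.injective.comp ((MonoidHom.ker_eq_bot_iff _).mp hker)
  have hc : Nat.card ↥φ.range = 8 :=
    (Nat.card_congr (MonoidHom.ofInjective hφ).toEquiv).symm.trans hT
  obtain ⟨S, hS⟩ := (IsPGroup.of_card (p := 2) (n := 3) (by rw [hc]; norm_num) :
    IsPGroup 2 ↥φ.range).exists_le_sylow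
  refine ⟨S, ⟨(MonoidHom.ofInjective hφ).trans (MulEquiv.subgroupCongr
    (eq_of_le_of_card_ge hS ?_))⟩⟩
  rw [hc, card_sylow_eq (p := 2) (a := 3) (m := 3) (by rw [Nat.card_perm, Nat.card_fin]; rfl)
    (by norm_num) S]
  rfl

/-- A group of order 8 with a non-central involution is dihedral. -/
theorem dihedral_of_card_eight {T : Type*} [Group T] [Finite T] (hT : Nat.card T = 8)
    (s : T) (hs : orderOf s = 2) (hsc : s ∉ center T) : Nonempty (T ≃* DihedralGroup 4) := by
  have : Fact (Nat.Prime 2) := ⟨Nat.prime_two⟩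
  obtain ⟨S, ⟨e⟩⟩ := sylow_perm4_of_card_eight hT s hs hsc
  obtain ⟨S', ⟨e'⟩⟩ := sylow_perm4_of_card_eight (T := DihedralGroup 4)
    (by rw [DihedralGroup.nat_card]) (DihedralGroup.sr 0) (DihedralGroup.orderOf_sr _)
    (by rw [mem_center_iff]; exact fun h => absurd (h (DihedralGroup.r 1)) (by decide))
  exact ⟨(e.trans (Sylow.equiv S S')).trans e'.symm⟩

namespace Order168

variable {G : Type*} [Group G] [Finite G] [IsSimpleGroup G] (h : Nat.card G = 168)

include h

theorem not_comm : ¬ IsMulCommutative G := not_comm_of_not_prime (by rw [h]; norm_num)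

theorem lt_index {H : Subgroup G} (hH : H ≠ ⊤) : 6 < H.index :=
  lt_index_of_not_dvd (not_comm h) (by rw [h]; decide) hH

theorem card_sylow_seven [Fact (Nat.Prime 7)] (P : Sylow 7 G) :
    Nat.card ↥(P : Subgroup G) = 7 := by
  simpa using card_sylow_eq (p := 7) (a := 1) (m := 24) (by rw [h]; norm_num) (by norm_num) P

theorem n_seven [Fact (Nat.Prime 7)] : Nat.card (Sylow 7 G) = 8 := by
  have hm := card_sylow_mem_list (G := G) (p := 7) (a := 1) (m := 24)
    (by rw [h]; norm_num) (by norm_num)
  rw [show (Nat.divisors 24).filter (fun d => d % 7 = 1) = {1, 8} by decide] at hm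
  simp only [Finset.mem_insert, Finset.mem_singleton] at hm
  exact hm.resolve_left (card_sylow_ne_one (not_comm h) (by rw [h]; norm_num))

theorem card_normalizer_seven [Fact (Nat.Prime 7)] (P : Sylow 7 G) :
    Nat.card ↥(normalizer ((P : Subgroup G) : Set G)) = 21 :=
  normalizer_conj_eq_card P (n_seven h) (by rw [h])

theorem centralizer_seven [Fact (Nat.Prime 7)] (P : Sylow 7 G) :
    centralizer ((P : Subgroup G) : Set G) = P := by
  set C := centralizer ((P : Subgroup G) : Set G)
  set N := normalizer ((P : Subgroup G) : Set G)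
  have hPC : (P : Subgroup G) ≤ C := by
    have := isCyclic_of_prime_card (p := 7) (card_sylow_seven h P)
    exact le_centralizer_iff_isMulCommutative.mpr inferInstance
  have hk1 : C.relIndex N ≠ 1 := fun hh =>
    not_normalizer_le_centralizer (not_comm h) (by rw [h]; norm_num) P (relIndex_eq_one.mp hh)
  have hk6 : C.relIndex N ∣ 6 := relIndex_centralizer_dvd_of_prime _ (card_sylow_seven h P)
  have hmul : Nat.card ↥C * C.relIndex N = 21 := by
    rw [← card_normalizer_seven h P, ← (C.subgroupOf N).card_mul_index,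
      Nat.card_congr (subgroupOfEquivOfLe (centralizer_le_normalizer _)).toEquiv]
    rfl
  have h7 : 7 ∣ Nat.card ↥C := card_sylow_seven h P ▸ card_dvd_of_le hPC
  refine (eq_of_le_of_card_ge hPC ?_).symm
  rw [card_sylow_seven h P]
  have hle := Nat.le_of_dvd (by norm_num) hk6
  obtain ⟨c, hc⟩ := h7
  interval_cases C.relIndex N <;> omega

theorem centralizer_singleton_seven [Fact (Nat.Prime 7)] {x : G} (hx : orderOf x = 7) :
    centralizer ({x} : Set G) = zpowers x := by
  obtain ⟨P, hP⟩ := exists_mem_sylow hx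
  have hx1 : x ≠ 1 := fun h1 => by rw [h1, orderOf_one] at hx; norm_num at hx
  have hzp := zpowers_eq_of_card_prime (card_sylow_seven h P) hP hx1
  rw [← centralizer_closure, ← zpowers_eq_closure, hzp, centralizer_seven h]

theorem card_sylow_three [Fact (Nat.Prime 3)] (Q : Sylow 3 G) :
    Nat.card ↥(Q : Subgroup G) = 3 := by
  simpa using card_sylow_eq (p := 3) (a := 1) (m := 56) (by rw [h]; norm_num) (by norm_num) Q

omit h in
theorem card_orderOf_eq_three (hQ : ∀ [Fact (Nat.Prime 3)] (Q : Sylow 3 G),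
    Nat.card ↥(Q : Subgroup G) = 3) (hn : Nat.card (Sylow 3 G) = 28) :
    Nat.card {g : G // orderOf g = 3} = 56 := by
  have : Fact (Nat.Prime 3) := ⟨by norm_num⟩
  rw [card_orderOf_eq (fun Q => hQ Q), hn]

/-- An element of order 3 has centraliser of order 3, and is conjugate to its inverse. -/
theorem class_three {y : G} (hy : orderOf y = 3) :
    Nat.card {g : G // IsConj y g} = 56 ∧ Nat.card ↥(centralizer ({y} : Set G)) = 3 := by
  have : Fact (Nat.Prime 3) := ⟨by norm_num⟩
  have : Fact (Nat.Prime 7) := ⟨by norm_num⟩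
  obtain ⟨Q, hQ⟩ := exists_mem_sylow hy
  have hy1 : y ≠ 1 := fun h1 => by rw [h1, orderOf_one] at hy; norm_num at hy
  have hzp := zpowers_eq_of_card_prime (card_sylow_three h Q) hQ hy1
  -- `y` is conjugate to its inverse
  obtain ⟨g, hgN, hgC⟩ := SetLike.not_le_iff_exists.mp
    (not_normalizer_le_centralizer (not_comm h) (by rw [h]; norm_num) Q)
  have hinv : g * y * g⁻¹ = y⁻¹ := by
    have hmem : g * y * g⁻¹ ∈ zpowers y := hzp ▸ (mem_normalizer_iff.mp hgN y).mp hQ
    rw [mem_zpowers_iff] at hmem
    obtain ⟨k, hk⟩ := hmem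
    rw [← zpow_mod_orderOf, hy] at hk
    have hk3 : k % 3 = 0 ∨ k % 3 = 1 ∨ k % 3 = 2 := by omega
    push_cast at hk
    rcases hk3 with hk3 | hk3 | hk3 <;> rw [hk3] at hk
    · rw [zpow_zero] at hk
      exact absurd (conj_eq_one_iff.mp hk.symm) hy1
    · rw [zpow_one] at hk
      exfalso
      apply hgC
      rw [← hzp, zpowers_eq_closure, centralizer_closure, mem_centralizer_singleton_iff]
      exact mul_inv_eq_iff_eq_mul.mp hk.symm
    · rw [← hk, eq_inv_iff_mul_eq_one, ← zpow_add_one, show (2 : ℤ) + 1 = ((3 : ℕ) : ℤ) from rfl,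
        zpow_natCast, ← hy, pow_orderOf_eq_one]
  -- `y` normalises a Sylow 7-subgroup: count on the 8 of them
  obtain ⟨P⟩ := (inferInstance : Nonempty (Sylow 7 G))
  obtain ⟨w, hw⟩ := exists_prime_orderOf_dvd_card' (G := ↥(normalizer ((P : Subgroup G) : Set G))) 3
    (by rw [card_normalizer_seven h P]; norm_num)
  have hw' : orderOf (w : G) = 3 := (orderOf_coe w).trans hw
  obtain ⟨R, hR⟩ := exists_mem_sylow hw'
  have hw1 : (w : G) ≠ 1 := fun h1 => by rw [h1, orderOf_one] at hw'; norm_num at hw'
  obtain ⟨c, rfl⟩ := MulAction.exists_smul_eq G Q R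
  -- so some conjugate of `y` lies in `N(P)`
  have hyw : ∃ x, IsConj y x ∧ x ∈ normalizer ((P : Subgroup G) : Set G) := by
    rw [Sylow.coe_subgroup_smul, Subgroup.pointwise_smul_def] at hR
    obtain ⟨v, hv, hvw⟩ := hR
    change c * v * c⁻¹ = w at hvw
    have hv1 : v ≠ 1 := by
      rintro rfl
      exact hw1 (by rw [← hvw, mul_one, mul_inv_cancel])
    have : y ∈ zpowers v := (zpowers_eq_of_card_prime (card_sylow_three h Q) hv hv1) ▸ hQ
    obtain ⟨k, rfl⟩ := mem_zpowers_iff.mp this
    refine ⟨(w : G) ^ k, isConj_iff.mpr ⟨c, ?_⟩, zpow_mem w.2 k⟩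
    rw [← hvw, conj_zpow]
  obtain ⟨x, hyx, hxN⟩ := hyw
  have hx : orderOf x = 3 := by
    obtain ⟨d, hd⟩ := isConj_iff.mp hyx
    rw [← hd]
    exact (orderOf_injective (MulAut.conj d).toMonoidHom (MulEquiv.injective _) y).trans hy
  set N := normalizer ((P : Subgroup G) : Set G)
  have hxC : x ∉ centralizer ((P : Subgroup G) : Set G) := by
    rw [centralizer_seven h P]
    intro hxP
    have := orderOf_of_card_prime (card_sylow_seven h P) hxP
      (fun h1 => by rw [h1, orderOf_one] at hx; norm_num at hx)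
    omega
  have hfle : Nat.card (MulAction.fixedBy (G ⧸ N) x) ≤ 2 := by
    have h1 := Nat.card_le_card_of_injective _
      (fixedBy_orbit_injective P (card_sylow_seven h P) hxN hxC)
    have h2 := card_orbits_mul P (card_sylow_seven h P)
    rw [n_seven h] at h2
    refine h1.trans (?_ : Nat.card (MulAction.orbitRel.Quotient ↥(P : Subgroup G)
      (G ⧸ normalizer ((P : Subgroup G) : Set G))) ≤ 2)
    omega
  have hf : Nat.card (MulAction.fixedBy (G ⧸ N) x) = 2 := by
    classical
    have := Fintype.ofFinite (G ⧸ N)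
    have hp3 : IsPGroup 3 ↥(zpowers x) :=
      IsPGroup.of_card (n := 1) (by rw [Nat.card_zpowers, hx, pow_one])
    have hmod := hp3.card_modEq_card_fixedPoints (G ⧸ N)
    have heq : MulAction.fixedPoints ↥(zpowers x) (G ⧸ N) = MulAction.fixedBy (G ⧸ N) x := by
      ext a
      simp only [MulAction.mem_fixedPoints, MulAction.mem_fixedBy]
      refine ⟨fun ha => ha ⟨x, mem_zpowers x⟩, fun ha u => ?_⟩
      obtain ⟨k, hk⟩ := mem_zpowers_iff.mp u.2
      change (u : G) • a = a
      rw [← hk]
      exact zpowers_le.mpr (show x ∈ MulAction.stabilizer G a from ha)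
        (zpow_mem (mem_zpowers x) k)
    rw [heq, ← index_eq_card,
      show N.index = 8 from P.card_eq_index_normalizer.symm.trans (n_seven h)] at hmod
    unfold Nat.ModEq at hmod
    omega
  -- the conjugates of `x` in `N` are all 14 elements of order 3 of `N`
  have hclass : ∀ u : G, orderOf u = 3 → IsConj x u ∨ IsConj x u⁻¹ := by
    intro u hu
    obtain ⟨S, hS⟩ := exists_mem_sylow hu
    obtain ⟨d, rfl⟩ := MulAction.exists_smul_eq G Q S
    rw [Sylow.coe_subgroup_smul, Subgroup.pointwise_smul_def] at hS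
    obtain ⟨v, hv, hvu⟩ := hS
    change d * v * d⁻¹ = u at hvu
    rw [← hzp, SetLike.mem_coe, mem_zpowers_iff] at hv
    obtain ⟨k, rfl⟩ := hv
    rw [← zpow_mod_orderOf, hy] at hvu
    have hk3 : k % 3 = 0 ∨ k % 3 = 1 ∨ k % 3 = 2 := by omega
    push_cast at hvu
    rcases hk3 with hk3 | hk3 | hk3 <;> rw [hk3] at hvu
    · rw [zpow_zero, mul_one, mul_inv_cancel] at hvu
      rw [← hvu, orderOf_one] at hu
      norm_num at hu
    · rw [zpow_one] at hvu
      exact Or.inl (hyx.symm.trans (isConj_iff.mpr ⟨d, hvu⟩))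
    · refine Or.inr (hyx.symm.trans (isConj_iff.mpr ⟨d, ?_⟩))
      rw [← hvu]
      have hy2 : (y ^ (2 : ℤ))⁻¹ = y := by
        rw [inv_eq_iff_mul_eq_one, ← zpow_add_one, show (2 : ℤ) + 1 = ((3 : ℕ) : ℤ) from rfl,
          zpow_natCast, ← hy, pow_orderOf_eq_one]
      rw [mul_inv_rev, mul_inv_rev, inv_inv, hy2, mul_assoc]
  have hxinv : IsConj x x⁻¹ := by
    obtain ⟨d, rfl⟩ := isConj_iff.mp hyx
    refine isConj_iff.mpr ⟨d * g * d⁻¹, ?_⟩
    calc d * g * d⁻¹ * (d * y * d⁻¹) * (d * g * d⁻¹)⁻¹ = d * (g * y * g⁻¹) * d⁻¹ := by group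
      _ = d * y⁻¹ * d⁻¹ := by rw [hinv]
      _ = _ := by group
  have hall : ∀ u : G, orderOf u = 3 → IsConj x u := by
    intro u hu
    rcases hclass u hu with h1 | h1
    · exact h1
    · obtain ⟨d, hd⟩ := isConj_iff.mp h1
      refine hxinv.trans (isConj_iff.mpr ⟨d, ?_⟩)
      calc d * x⁻¹ * d⁻¹ = (d * x * d⁻¹)⁻¹ := by group
        _ = u := by rw [hd, inv_inv]
  have hN3 : Nat.card {g : G // IsConj x g ∧ g ∈ N} = 14 := by
    have hS : ∀ S : Sylow 3 ↥N, Nat.card ↥(S : Subgroup ↥N) = 3 := fun S => by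
      simpa using card_sylow_eq (p := 3) (a := 1) (m := 7)
        (by rw [card_normalizer_seven h P]; norm_num) (by norm_num) S
    have hn3 : Nat.card (Sylow 3 ↥N) = 7 := by
      have hm := card_sylow_mem_list (G := ↥N) (p := 3) (a := 1) (m := 7)
        (by rw [card_normalizer_seven h P]; norm_num) (by norm_num)
      rw [show (Nat.divisors 7).filter (fun d => d % 3 = 1) = {1, 7} by decide] at hm
      simp only [Finset.mem_insert, Finset.mem_singleton] at hm
      refine hm.resolve_left fun h1 => ?_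
      obtain ⟨S, hS'⟩ := exists_mem_sylow (G := ↥N) (p := 3)
        (y := ⟨x, hxN⟩) ((orderOf_coe ⟨x, hxN⟩).symm.trans hx)
      have := normal_of_card_sylow_eq_one h1 S
      have hPn : ((P : Subgroup G).subgroupOf N).Normal := normal_in_normalizer
      have hdis : Disjoint ((P : Subgroup G).subgroupOf N) (S : Subgroup ↥N) := by
        refine Subgroup.disjoint_of_coprime_natCard ?_
        rw [Nat.card_congr (subgroupOfEquivOfLe le_normalizer).toEquiv, card_sylow_seven h P,
          hS S]
        norm_num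
      apply hxC
      rw [mem_centralizer_iff]
      intro u hu
      exact congrArg Subtype.val (Subgroup.commute_of_normal_of_disjoint _ _ hPn this hdis
        ⟨u, le_normalizer hu⟩ ⟨x, hxN⟩ hu hS').eq
    rw [← show Nat.card {g : ↥N // orderOf g = 3} = 14 by rw [card_orderOf_eq hS, hn3]]
    refine Nat.card_congr
      { toFun := fun u => ⟨⟨u.1, u.2.2⟩, ?_⟩
        invFun := fun u => ⟨u.1.1, hall _ ((orderOf_coe u.1).trans u.2), u.1.2⟩
        left_inv := fun u => rfl
        right_inv := fun u => rfl }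
    obtain ⟨d, hd⟩ := isConj_iff.mp u.2.1
    rw [← orderOf_coe, Subtype.coe_mk, ← hd]
    exact (orderOf_injective (MulAut.conj d).toMonoidHom (MulEquiv.injective _) x).trans hx
  have hcount := card_fixedBy_mul N x
  rw [hf, hN3, show N.index = 8 from P.card_eq_index_normalizer.symm.trans (n_seven h)] at hcount
  have hcl : Nat.card {g : G // IsConj y g} = Nat.card {g : G // IsConj x g} :=
    Nat.card_congr (Equiv.subtypeEquivRight fun u =>
      ⟨fun hu => hyx.symm.trans hu, fun hu => hyx.trans hu⟩)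
  have h56 : Nat.card {g : G // IsConj y g} = 56 := by omega
  refine ⟨h56, ?_⟩
  have := card_conj_mul_centralizer y
  rw [h56, h] at this
  omega

theorem n_three [Fact (Nat.Prime 3)] : Nat.card (Sylow 3 G) = 28 := by
  have h56 := card_orderOf_eq (G := G) (p := 3) (card_sylow_three h)
  obtain ⟨y, hy⟩ := exists_prime_orderOf_dvd_card' (G := G) 3 (by rw [h]; norm_num)
  have hle : Nat.card {g : G // IsConj y g} ≤ Nat.card {g : G // orderOf g = 3} := by
    refine Nat.card_le_card_of_injective (fun u => ⟨u.1, ?_⟩) fun a b hab => ?_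
    · obtain ⟨d, hd⟩ := isConj_iff.mp u.2
      rw [← hd]
      exact (orderOf_injective (MulAut.conj d).toMonoidHom (MulEquiv.injective _) y).trans hy
    · exact Subtype.ext (congrArg (fun v : {g : G // orderOf g = 3} => v.1) hab)
  rw [(class_three h hy).1, h56] at hle
  have hd := (card_sylow_mem (G := G) (p := 3) (a := 1) (m := 56)
    (by rw [h]; norm_num) (by norm_num))
  have hle' : Nat.card (Sylow 3 G) ≤ 56 := Nat.le_of_dvd (by norm_num) hd.1
  interval_cases hh : Nat.card (Sylow 3 G) <;> omega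

theorem card_three : Nat.card {g : G // orderOf g = 3} = 56 := by
  have : Fact (Nat.Prime 3) := ⟨by norm_num⟩
  rw [card_orderOf_eq (card_sylow_three h), n_three h]

/-- No element of order 6. -/
theorem orderOf_ne_six (g : G) : orderOf g ≠ 6 := by
  intro hg
  have h3 : orderOf (g ^ 2) = 3 := by
    rw [orderOf_pow' g two_ne_zero, hg]; norm_num
  have hmem : g ∈ centralizer ({g ^ 2} : Set G) :=
    mem_centralizer_singleton_iff.mpr (by rw [← pow_succ, ← pow_succ'])
  have := Subgroup.orderOf_dvd_natCard _ hmem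
  rw [hg, (class_three h h3).2] at this
  norm_num at this

/-- An element centralising a non-trivial 2-element has 2-power order. -/
theorem dvd_eight_of_commute {z : G} (hz : z ≠ 1) (hz8 : orderOf z ∣ 8) :
    Nat.card ↥(centralizer ({z} : Set G)) ∣ 8 := by
  have : Fact (Nat.Prime 3) := ⟨by norm_num⟩
  have : Fact (Nat.Prime 7) := ⟨by norm_num⟩
  have hd : Nat.card ↥(centralizer ({z} : Set G)) ∣ 168 := h ▸ card_subgroup_dvd_card _
  have hno : ∀ q : ℕ, q.Prime → (q = 3 ∨ q = 7) → ¬ q ∣ Nat.card ↥(centralizer ({z} : Set G)) := by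
    intro q hq hq' hdvd
    have : Fact q.Prime := ⟨hq⟩
    obtain ⟨y, hy⟩ := exists_prime_orderOf_dvd_card' q hdvd
    have hy' : orderOf (y : G) = q := (orderOf_coe y).trans hy
    have hzy : z ∈ centralizer ({(y : G)} : Set G) :=
      mem_centralizer_singleton_iff.mpr (mem_centralizer_singleton_iff.mp y.2).symm
    have h1 := Subgroup.orderOf_dvd_natCard _ hzy
    have hC : Nat.card ↥(centralizer ({(y : G)} : Set G)) = q := by
      rcases hq' with rfl | rfl
      · exact (class_three h hy').2
      · rw [centralizer_singleton_seven h hy', Nat.card_zpowers, hy']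
    rw [hC] at h1
    have hco : Nat.Coprime q 8 := by rcases hq' with rfl | rfl <;> norm_num
    exact hz (orderOf_eq_one_iff.mp (Nat.eq_one_of_dvd_coprimes hco h1 hz8))
  have h3 := hno 3 (by norm_num) (Or.inl rfl)
  have h7 := hno 7 (by norm_num) (Or.inr rfl)
  have c3 : Nat.Coprime (Nat.card ↥(centralizer ({z} : Set G))) 3 :=
    ((Fact.out : Nat.Prime 3).coprime_iff_not_dvd.mpr h3).symm
  have c7 : Nat.Coprime (Nat.card ↥(centralizer ({z} : Set G))) 7 :=
    ((Fact.out : Nat.Prime 7).coprime_iff_not_dvd.mpr h7).symm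
  exact (c3.mul_right c7).dvd_of_dvd_mul_left (show _ ∣ 21 * 8 from hd)

theorem card_sylow_two [Fact (Nat.Prime 2)] (T : Sylow 2 G) :
    Nat.card ↥(T : Subgroup G) = 8 := by
  simpa using card_sylow_eq (p := 2) (a := 3) (m := 21) (by rw [h]; norm_num) (by norm_num) T

theorem n_two [Fact (Nat.Prime 2)] : Nat.card (Sylow 2 G) = 21 := by
  have hm := card_sylow_mem_list (G := G) (p := 2) (a := 3) (m := 21)
    (by rw [h]; norm_num) (by norm_num)
  rw [show (Nat.divisors 21).filter (fun d => d % 2 = 1) = {1, 3, 7, 21} by decide] at hm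
  simp only [Finset.mem_insert, Finset.mem_singleton] at hm
  have h2 := two_mul_card_dvd_sylow (p := 2) (not_comm h) (by rw [h]; norm_num)
  rcases hm with hm | hm | hm | hm
  · exact absurd hm (card_sylow_ne_one (not_comm h) (by rw [h]; norm_num))
  · rw [hm, h] at h2; exact absurd h2 (by decide)
  · exfalso
    obtain ⟨T⟩ := (inferInstance : Nonempty (Sylow 2 G))
    set N := normalizer ((T : Subgroup G) : Set G)
    have hN : Nat.card ↥N = 24 := normalizer_conj_eq_card T hm (by rw [h])
    obtain ⟨e⟩ := Cfsg.Agent.S1012.result hN (fun g hg => orderOf_ne_six h (g : G)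
      ((orderOf_coe g).trans hg))
    have hS : ∀ S : Sylow 2 ↥N, S = T.subtype le_normalizer := by
      intro S
      have hn : ((T.subtype le_normalizer : Sylow 2 ↥N) : Subgroup ↥N).Normal := by
        rw [Sylow.coe_subtype]; exact normal_in_normalizer
      have := Sylow.unique_of_normal _ hn
      exact Subsingleton.elim _ _
    have : Subsingleton (Sylow 2 ↥N) := ⟨fun a b => (hS a).trans (hS b).symm⟩
    -- but `S₄` has a Sylow 2-subgroup that is not normal
    obtain ⟨S⟩ := (inferInstance : Nonempty (Sylow 2 (Equiv.Perm (Fin 4))))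
    have hone : Nat.card (Sylow 2 ↥N) = 1 := Nat.card_eq_one_iff_unique.mpr ⟨this, inferInstance⟩
    have hnn := normal_of_card_sylow_eq_one hone (T.subtype le_normalizer)
    set U := ((T.subtype le_normalizer : Sylow 2 ↥N) : Subgroup ↥N).map e.toMonoidHom
    have hU : U.Normal := hnn.map _ e.surjective
    have hUcard : Nat.card ↥U = 8 := by
      rw [Nat.card_congr (((T.subtype le_normalizer : Sylow 2 ↥N) : Subgroup ↥N).equivMapOfInjective
        _ e.injective).toEquiv.symm, Sylow.coe_subtype,
        Nat.card_congr (subgroupOfEquivOfLe le_normalizer).toEquiv, card_sylow_two h T]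
    -- all transpositions lie in `U`
    have hsw : ∀ i j : Fin 4, i ≠ j → Equiv.swap i j ∈ U := by
      intro i j hij
      have hord : orderOf (Equiv.swap i j) = 2 :=
        orderOf_eq_prime (by rw [sq, Equiv.swap_mul_self])
          (fun h1 => hij (Equiv.swap_eq_one_iff.mp h1))
      have hidx : U.index = 3 := by
        have := U.card_mul_index
        rw [hUcard, Nat.card_perm, Nat.card_fin, show (4 : ℕ).factorial = 24 from rfl] at this
        omega
      have hq : orderOf (QuotientGroup.mk' U (Equiv.swap i j)) = 1 := by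
        refine Nat.eq_one_of_dvd_coprimes (show Nat.Coprime 2 3 by norm_num)
          (hord ▸ orderOf_map_dvd _ _) ?_
        have := orderOf_dvd_natCard (QuotientGroup.mk' U (Equiv.swap i j))
        rwa [← index_eq_card, hidx] at this
      exact (QuotientGroup.eq_one_iff _).mp (orderOf_eq_one_iff.mp hq)
    have htop : U = ⊤ := by
      rw [eq_top_iff, ← Equiv.Perm.closure_isSwap, closure_le]
      rintro σ ⟨i, j, hij, rfl⟩
      exact hsw i j hij
    rw [htop, Subgroup.card_top, Nat.card_perm, Nat.card_fin] at hUcard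
    exact absurd hUcard (by decide)
  · exact hm

theorem normalizer_two [Fact (Nat.Prime 2)] (T : Sylow 2 G) :
    normalizer ((T : Subgroup G) : Set G) = T :=
  (eq_of_le_of_card_ge le_normalizer (by
    rw [normalizer_conj_eq_card T (n_two h) (k := 8) (by rw [h]), card_sylow_two h T])).symm

theorem center_two [Fact (Nat.Prime 2)] (T : Sylow 2 G) :
    ∃ z : G, z ∈ (T : Subgroup G) ∧ z ≠ 1 ∧ orderOf z = 2 ∧
      centralizer ({z} : Set G) = T := by
  have hT := card_sylow_two h T
  have : Nontrivial ↥(T : Subgroup G) := Finite.one_lt_card_iff_nontrivial.mp (by omega)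
  have := T.2.center_nontrivial
  obtain ⟨u, hu⟩ := exists_prime_orderOf_dvd_card' (G := ↥(center ↥(T : Subgroup G))) 2 (by
    obtain ⟨j, hj⟩ := (T.2.to_subgroup (center _)).exists_card_eq
    rw [hj]
    rcases j with _ | j
    · exfalso
      have := Finite.one_lt_card (α := ↥(center ↥(T : Subgroup G)))
      omega
    · exact dvd_pow_self 2 j.succ_ne_zero)
  have hz : orderOf (u.1 : G) = 2 := by rw [orderOf_coe, orderOf_coe, hu]
  have hz1 : (u.1 : G) ≠ 1 := fun h1 => by rw [h1, orderOf_one] at hz; norm_num at hz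
  refine ⟨u.1, u.1.2, hz1, hz, (eq_of_le_of_card_ge ?_ ?_).symm⟩
  · intro t ht
    rw [mem_centralizer_singleton_iff]
    exact congrArg Subtype.val (mem_center_iff.mp u.2 ⟨t, ht⟩)
  · rw [hT]
    exact Nat.le_of_dvd (by norm_num) (dvd_eight_of_commute h hz1 (by rw [hz]; norm_num))

/-- A Sylow 2-subgroup is dihedral. -/
theorem dihedral [Fact (Nat.Prime 2)] (T : Sylow 2 G) :
    Nonempty (↥(T : Subgroup G) ≃* DihedralGroup 4) := by
  have hT := card_sylow_two h T
  by_cases hcase : ∃ s : ↥(T : Subgroup G), orderOf s = 2 ∧ s ∉ center ↥(T : Subgroup G)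
  · obtain ⟨s, hs, hsc⟩ := hcase
    exact dihedral_of_card_eight hT s hs hsc
  push_neg at hcase
  exfalso
  classical
  have := Fintype.ofFinite G
  -- otherwise the Sylow 2-subgroups intersect trivially, giving too many elements
  have hTI : ∀ A B : Sylow 2 G, ∀ u : G, u ∈ (A : Subgroup G) → u ∈ (B : Subgroup G) →
      u ≠ 1 → A = B := by
    intro A B u hA hB hu
    obtain ⟨m, hm⟩ := A.2 ⟨u, hA⟩
    obtain ⟨z, hzA, hzB, hz⟩ : ∃ z, z ∈ (A : Subgroup G) ∧ z ∈ (B : Subgroup G) ∧ orderOf z = 2 := by
      have hd : orderOf u ∣ 2 ^ m := by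
        rw [show orderOf u = orderOf (⟨u, hA⟩ : ↥(A : Subgroup G)) from orderOf_coe ⟨u, hA⟩]
        simpa using orderOf_dvd_of_pow_eq_one hm
      obtain ⟨j, -, hj⟩ := (Nat.dvd_prime_pow Nat.prime_two).mp hd
      rcases j with _ | j
      · exact absurd (orderOf_eq_one_iff.mp (by simpa using hj)) hu
      · refine ⟨u ^ 2 ^ j, pow_mem hA _, pow_mem hB _, ?_⟩
        rw [orderOf_pow' u (pow_ne_zero _ two_ne_zero), hj,
          Nat.gcd_eq_right (pow_dvd_pow 2 j.le_succ), pow_succ', Nat.mul_div_cancel _ (by positivity)]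
    have key : ∀ S : Sylow 2 G, z ∈ (S : Subgroup G) →
        centralizer ({z} : Set G) = (S : Subgroup G) := by
      intro S hzS
      obtain ⟨d, hd⟩ := MulAction.exists_smul_eq G T S
      have hmem := hzS
      rw [← hd, Sylow.coe_subgroup_smul, Subgroup.pointwise_smul_def] at hmem
      obtain ⟨v, hv, hvz⟩ := hmem
      change d * v * d⁻¹ = z at hvz
      have hv2 : orderOf v = 2 := by
        rw [← hz, ← hvz]
        exact (orderOf_injective (MulAut.conj d).toMonoidHom (MulEquiv.injective _) v).symm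
      have hc := hcase ⟨v, hv⟩ ((orderOf_coe _).symm.trans hv2)
      refine (eq_of_le_of_card_ge ?_ ?_).symm
      · intro t ht
        rw [← hd, Sylow.coe_subgroup_smul, Subgroup.pointwise_smul_def] at ht
        obtain ⟨w, hw, hwt⟩ := ht
        change d * w * d⁻¹ = t at hwt
        rw [mem_centralizer_singleton_iff, ← hwt, ← hvz]
        have hcv : w * v = v * w := congrArg Subtype.val (mem_center_iff.mp hc ⟨w, hw⟩)
        calc d * w * d⁻¹ * (d * v * d⁻¹) = d * (w * v) * d⁻¹ := by group
          _ = d * (v * w) * d⁻¹ := by rw [hcv]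
          _ = _ := by group
      · rw [card_sylow_two h S]
        exact Nat.le_of_dvd (by norm_num) (dvd_eight_of_commute h
          (fun h1 => by rw [h1, orderOf_one] at hz; norm_num at hz) (by rw [hz]; norm_num))
    exact Sylow.ext ((key A hzA).symm.trans (key B hzB))
  let f : (Σ A : Sylow 2 G, {u : ↥(A : Subgroup G) // u ≠ 1}) → G := fun x => x.2.1.1
  have hinj : Function.Injective f := by
    rintro ⟨A, ⟨⟨u, hu⟩, hu1⟩⟩ ⟨B, ⟨⟨v, hv⟩, hv1⟩⟩ huv
    have huv' : u = v := huv
    subst huv'
    have := hTI A B u hu hv (fun h1 => hu1 (Subtype.ext h1))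
    subst this
    rfl
  have hle := Nat.card_le_card_of_injective f hinj
  have := Fintype.ofFinite (Sylow 2 G)
  rw [Nat.card_sigma, Finset.sum_congr rfl (g := fun _ => 7) (fun A _ => ?_), Finset.sum_const,
    Finset.card_univ, ← Nat.card_eq_fintype_card, n_two h] at hle
  · have h3 := card_three h
    -- the elements of order 3 are not 2-elements
    have hlt : Nat.card (Σ A : Sylow 2 G, {u : ↥(A : Subgroup G) // u ≠ 1}) +
        Nat.card {g : G // orderOf g = 3} ≤ Nat.card G := by
      rw [← Nat.card_sum]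
      refine Nat.card_le_card_of_injective (Sum.elim f Subtype.val) ?_
      rw [Sum.elim_injective]
      refine ⟨hinj, Subtype.val_injective, fun a b hab => ?_⟩
      have h8 := Subgroup.orderOf_dvd_natCard _ a.2.1.2
      rw [card_sylow_two h, show (a.2.1 : G) = b.1 from hab, b.2] at h8
      norm_num at h8
    rw [Nat.card_sigma, Finset.sum_congr rfl (g := fun _ => 7) (fun A _ => ?_), Finset.sum_const,
      Finset.card_univ, ← Nat.card_eq_fintype_card, n_two h, h3, h] at hlt
    · simp at hlt
    · have hA := card_sylow_two h A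
      rw [Nat.card_eq_fintype_card] at hA
      rw [Nat.card_eq_fintype_card, Fintype.card_subtype_compl, hA, Fintype.card_subtype_eq]
  · have hA := card_sylow_two h A
    rw [Nat.card_eq_fintype_card] at hA
    rw [Nat.card_eq_fintype_card, Fintype.card_subtype_compl, hA, Fintype.card_subtype_eq]

end Order168

end Cfsg.Agent.SmallGroups
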