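import Cfsg.Agent.Lib.SmallGroups.Counting
import Cfsg.Agent.Lib.SmallGroups.SelfCent.Sylow
import Cfsg.Agent.S0904

/-!
# Simple groups of order `p ^ a * q ^ b * r`
-/

set_option autoImplicit false

namespace Cfsg.Agent.SmallGroups

open Subgroup

/-- In a non-abelian simple group of order `p ^ a * q ^ b * r` the Sylow `r`-subgroup has
normalizer of order `e r` with `2 ≤ e ∣ r - 1`. -/
theorem exists_index_three_primes {G : Type*} [Group G] [Finite G] [IsSimpleGroup G]
    (hG : ¬ IsMulCommutative G) {p q r a b : ℕ} (hp : p.Prime) (hq : q.Prime) [Fact r.Prime]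
    (hpq : p ≠ q) (hpr : p ≠ r) (hqr : q ≠ r) (hcard : Nat.card G = p ^ a * q ^ b * r)
    (S : Sylow r G) :
    Nat.card ↥(S : Subgroup G) = r ∧
    centralizer ((S : Subgroup G) : Set G) = (S : Subgroup G) ∧
    ∃ e, 2 ≤ e ∧ e ∣ r - 1 ∧ Nat.card ↥(normalizer ((S : Subgroup G) : Set G)) = e * r ∧
      e * Nat.card (Sylow r G) = p ^ a * q ^ b := by
  have hr : r.Prime := Fact.out
  have hC := Cfsg.Agent.S0904.result p q r a b hp hq hpq hpr hqr hcard S
  have hS : Nat.card ↥(S : Subgroup G) = r := by
    have := card_sylow_eq (p := r) (a := 1) (m := p ^ a * q ^ b) (by rw [hcard]; ring) (fun h => by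
      rcases hr.dvd_mul.mp h with h' | h'
      · exact hpr ((Nat.prime_dvd_prime_iff_eq hr hp).mp (hr.dvd_of_dvd_pow h')).symm
      · exact hqr ((Nat.prime_dvd_prime_iff_eq hr hq).mp (hr.dvd_of_dvd_pow h')).symm) S
    simpa using this
  have hC' : centralizer ((S : Subgroup G) : Set G) = (S : Subgroup G) := hC
  refine ⟨hS, hC', (centralizer ((S : Subgroup G) : Set G)).relIndex
    (normalizer ((S : Subgroup G) : Set G)), ?_, relIndex_centralizer_dvd_of_prime _ hS, ?_, ?_⟩
  · rcases Nat.lt_or_ge ((centralizer ((S : Subgroup G) : Set G)).relIndex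
      (normalizer ((S : Subgroup G) : Set G))) 2 with h | h
    · exfalso
      have h0 : (centralizer ((S : Subgroup G) : Set G)).relIndex
          (normalizer ((S : Subgroup G) : Set G)) ≠ 0 := FiniteIndex.index_ne_zero
      exact not_normalizer_le_centralizer hG (hS ▸ card_subgroup_dvd_card _) S
        (relIndex_eq_one.mp (by omega))
    · exact h
  · rw [← card_centralizer_mul_relIndex, hC', hS, mul_comm]
  · have h := card_normalizer_mul S
    rw [← card_centralizer_mul_relIndex, hC', hS, hcard, mul_assoc, mul_comm _ r] at h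
    rw [hC']
    exact Nat.eq_of_mul_eq_mul_left hr.pos h

end Cfsg.Agent.SmallGroups
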