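import Cfsg.Agent.Lib.SmallGroups.PSLSearch

/-!
# Recognition of `PSL(2, p)` from a checked table
-/

set_option autoImplicit false

namespace Cfsg.Agent.SmallGroups

open Cfsg.Agent.Classification

variable {G : Type*} [Group G] [Finite G] [IsSimpleGroup G]

/-- A simple group of order `(p + 1) p (p - 1) / 2` is `PSL(2, p)` once the table is checked. -/
theorem equiv_psl_of_table (p c r m : ℕ) [Fact p.Prime] (hp5 : 5 ≤ p) (hm : 2 * m + 1 = p)
    (hG : Nat.card G = (p + 1) * p * m) (w0 : Fin (p + 1) → Fin (p + 1))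
    (hdiv : ((p + 1) * m).divisors.filter (fun d => d % p = 1) = {1, p + 1})
    (hc : (c : ZMod p) ^ m = 1 ∧ ∀ i, i < m → 0 < i → (c : ZMod p) ^ i ≠ 1)
    (T : Tables (p + 1)) (hT : T = primeTables p c r m m w0)
    (ho : T.o ≠ T.inf) (hu : T.u ≠ T.inf ∧ T.u ≠ T.o) (hr : T.r ≠ T.inf ∧ T.r ≠ T.o)
    (hcheck : checkNorm T = true)
    {F : Type*} [Field F] [Fintype F] (hF : Fintype.card F = p) :
    Nonempty (G ≃* Matrix.ProjectiveSpecialLinearGroup (Fin 2) F) := by
  have : IsSimpleGroup (Matrix.ProjectiveSpecialLinearGroup (Fin 2) F) :=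
    isSimpleGroup_psl_two F (by omega)
  have hPSL : Nat.card (Matrix.ProjectiveSpecialLinearGroup (Fin 2) F) = (p + 1) * p * m := by
    have h1 := LinearGroup.gcd_mul_card_PSL_two (F := F)
    have hgcd : Nat.gcd 2 (p - 1) = 2 := Nat.gcd_eq_left ⟨m, by omega⟩
    rw [Nat.card_eq_fintype_card (α := F), hF, hgcd] at h1
    have h2 : p ^ 2 - 1 = (p + 1) * (2 * m) := by
      rw [show p ^ 2 - 1 = p ^ 2 - 1 ^ 2 by rw [one_pow], Nat.sq_sub_sq]
      congr 1
      omega
    rw [h2] at h1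
    linarith
  have hne := not_comm_of_card (G := G) p m hp5 hm hG
  have hne' := not_comm_of_card (G := Matrix.ProjectiveSpecialLinearGroup (Fin 2) F) p m hp5 hm hPSL
  obtain ⟨f, x, t, R⟩ := exists_realises_prime hne p c r m m hp5 hm w0 hG
    (card_sylow_eq_succ p m hp5 hm hG hdiv) hc
  obtain ⟨f', x', t', R'⟩ := exists_realises_prime hne' p c r m m hp5 hm w0 hPSL
    (card_sylow_eq_succ p m hp5 hm hPSL hdiv) hc
  rw [← hT] at R R'
  exact ⟨(MonoidHom.ofInjective R.inj).trans ((MulEquiv.subgroupCongr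
    ((range_eq_of_checkNorm R ho hu hr hcheck).trans
      (range_eq_of_checkNorm R' ho hu hr hcheck).symm)).trans
        (MonoidHom.ofInjective R'.inj).symm)⟩

end Cfsg.Agent.SmallGroups
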