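import Cfsg.Agent.Lib.SmallGroups.PSLSearch

/-!
# Table for the uniqueness of the simple group of order `(17 + 1) 17 (17 - 1) / 2`
-/

set_option autoImplicit false

namespace Cfsg.Agent.SmallGroups

open Cfsg.Agent.Classification

/-- The table. -/
def tables17 : Tables (17 + 1) := primeTables 17 2 3 8 8 ![17, 16, 8, 11, 4, 10, 14, 12, 2, 15, 5, 3, 7, 13, 6, 9, 1, 0]

set_option maxRecDepth 100000 in
theorem check17 : checkNorm tables17 = true := by decide +kernel

end Cfsg.Agent.SmallGroups
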