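import Cfsg.Agent.Lib.SmallGroups.Action
import Mathlib.GroupTheory.SpecificGroups.Alternating

/-!
# `C(P)` permutes the regular orbits of a Sylow subgroup `P` of prime order evenly
-/

set_option autoImplicit false

namespace Cfsg.Agent.SmallGroups

open Subgroup MulAction

variable {G : Type*} [Group G] [Finite G] {p : ℕ} [hp : Fact p.Prime]

/-- An element of odd order induces an even permutation. -/
theorem sign_mulRight_eq_one {H : Type*} [Group H] [Fintype H] [DecidableEq H]
    (hodd : Odd (Nat.card H)) (t : H) : Equiv.Perm.sign (Equiv.mulRight t) = 1 := by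
  let f : Hᵐᵒᵖ →* ℤˣ :=
    { toFun := fun u => Equiv.Perm.sign (Equiv.mulRight u.unop)
      map_one' := by simp
      map_mul' := fun u v => by
        rw [← map_mul]
        congr 1
        ext x
        simp [mul_assoc] }
  have h := map_pow f (MulOpposite.op t) (Nat.card H)
  rw [← MulOpposite.op_pow, pow_card_eq_one', MulOpposite.op_one, map_one] at h
  rcases Int.units_eq_one_or (f (MulOpposite.op t)) with h1 | h1
  · exact h1
  · rw [h1, hodd.neg_one_pow] at h
    exact absurd h (by decide)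

/-- `C(P)` acts by even permutations on the `n = (n_p - 1) / p` regular `P`-orbits, and an element
fixing all of them has order dividing `p`. -/
theorem exists_orbit_hom [IsSimpleGroup G] (hG : ¬ IsMulCommutative G) (P : Sylow p G)
    (hP : Nat.card ↥(P : Subgroup G) = p) (hp2 : p ≠ 2) :
    ∃ (n : ℕ) (φ : ↥(centralizer ((P : Subgroup G) : Set G)) →* Equiv.Perm (Fin n)),
      n * p + 1 = Nat.card (Sylow p G) ∧ (∀ c, Equiv.Perm.sign (φ c) = 1) ∧
      ∀ c, φ c = 1 → c ^ p = 1 := by
  classical
  set N := normalizer ((P : Subgroup G) : Set G)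
  set C := centralizer ((P : Subgroup G) : Set G)
  have := Fintype.ofFinite (G ⧸ N)
  have := Fintype.ofFinite ↥(P : Subgroup G)
  set b : G ⧸ N := ((1 : G) : G ⧸ N) with hb
  have hNb : ∀ g ∈ N, g • b = b := by
    intro g hg
    rw [hb, MulAction.Quotient.smul_mk, smul_eq_mul, mul_one, QuotientGroup.eq, mul_one]
    exact N.inv_mem hg
  have hPb : ∀ u : ↥(P : Subgroup G), u • b = b := fun u => hNb _ (le_normalizer u.2)
  let O := {ω : orbitRel.Quotient ↥(P : Subgroup G) (G ⧸ N) // ω ≠ Quotient.mk'' b}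
  have := Fintype.ofFinite O
  have hout : ∀ ω : O, (ω.1.out : G ⧸ N) ≠ b := fun ω h => ω.2 (by
    rw [← Quotient.out_eq' ω.1, h])
  have hne : ∀ (u : ↥(P : Subgroup G)) (ω : O), u • ω.1.out ≠ b := fun u ω h =>
    hout ω (by rw [← inv_smul_smul u ω.1.out, h, hPb])
  let e₀ : O × ↥(P : Subgroup G) → {a : G ⧸ N // a ≠ b} := fun q =>
    ⟨q.2 • q.1.1.out, hne _ _⟩
  have he₀ : Function.Bijective e₀ := by
    constructor
    · rintro ⟨ω, u⟩ ⟨ω', u'⟩ h
      have h1 : u • ω.1.out = u' • ω'.1.out := congrArg Subtype.val h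
      have hω : ω = ω' := by
        apply Subtype.ext
        rw [← Quotient.out_eq' ω.1, ← Quotient.out_eq' ω'.1]
        exact Quotient.sound' ⟨u⁻¹ * u', by
          show (u⁻¹ * u') • ω'.1.out = ω.1.out
          rw [mul_smul, ← h1, inv_smul_smul]⟩
      subst hω
      have hfix : ((u'⁻¹ * u : ↥(P : Subgroup G)) : G) • ω.1.out = ω.1.out := by
        show (u'⁻¹ * u) • ω.1.out = ω.1.out
        rw [mul_smul, h1, inv_smul_smul]
      have hu : u'⁻¹ * u = 1 := by
        by_contra h2
        have hmem : ω.1.out ∈ fixedBy (G ⧸ N) ((u'⁻¹ * u : ↥(P : Subgroup G)) : G) := hfix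
        rw [fixedBy_eq_base P hP (u'⁻¹ * u).2 (fun h3 => h2 (Subtype.ext h3)),
          Set.mem_singleton_iff] at hmem
        exact hout ω hmem
      rw [(inv_mul_eq_one.mp hu).symm]
    · rintro ⟨a, ha⟩
      set q : orbitRel.Quotient ↥(P : Subgroup G) (G ⧸ N) := Quotient.mk'' a with hq
      obtain ⟨u, hu⟩ : a ∈ orbit ↥(P : Subgroup G) q.out := by
        rw [← orbitRel_apply]
        exact Quotient.exact' (by rw [Quotient.out_eq', hq])
      refine ⟨(⟨q, ?_⟩, u), Subtype.ext hu⟩
      intro h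
      obtain ⟨v, hv⟩ := Quotient.exact' h
      exact ha (by rw [← hv]; exact hPb v)
  let e := Equiv.ofBijective e₀ he₀
  -- the action of an element of `C`
  have hcne : ∀ (c : C) (ω : O), (c : G) • ω.1.out ≠ b := fun c ω h => by
    apply hout ω
    rw [← inv_smul_smul (c : G) ω.1.out, h]
    exact hNb _ (N.inv_mem (centralizer_le_normalizer _ c.2))
  let img : C → O → O × ↥(P : Subgroup G) := fun c ω => e.symm ⟨(c : G) • ω.1.out, hcne c ω⟩
  have himg : ∀ c ω, (img c ω).2 • (img c ω).1.1.out = (c : G) • ω.1.out := fun c ω =>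
    congrArg Subtype.val (e.apply_symm_apply ⟨(c : G) • ω.1.out, hcne c ω⟩)
  let π : C → O → O := fun c ω => (img c ω).1
  have huniq : ∀ (ω ω' : O) (u u' : ↥(P : Subgroup G)), u • ω.1.out = u' • ω'.1.out →
      ω = ω' ∧ u = u' := fun ω ω' u u' h =>
    Prod.mk.injEq .. ▸ he₀.1 (a₁ := (ω, u)) (a₂ := (ω', u')) (Subtype.ext h)
  have hcomm : ∀ (c : C) (u : ↥(P : Subgroup G)) (a : G ⧸ N),
      (c : G) • u • a = u • (c : G) • a := fun c u a => by
    show (c : G) • (u : G) • a = (u : G) • (c : G) • a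
    rw [← mul_smul, ← mul_smul, mem_centralizer_iff.mp c.2 u u.2]
  have hπmul : ∀ c d ω, π (c * d) ω = π c (π d ω) := by
    intro c d ω
    refine (huniq _ _ (img (c * d) ω).2 ((img d ω).2 * (img c (π d ω)).2) ?_).1
    rw [himg, mul_smul, himg, ← hcomm, himg, Subgroup.coe_mul, mul_smul]
  have hπone : ∀ ω, π 1 ω = ω := fun ω =>
    (huniq _ _ (img 1 ω).2 1 (by rw [himg]; simp)).1
  let ψ : C →* Equiv.Perm O :=
    { toFun := fun c =>
        { toFun := π c
          invFun := π c⁻¹
          left_inv := fun ω => by rw [← hπmul, inv_mul_cancel, hπone]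
          right_inv := fun ω => by rw [← hπmul, mul_inv_cancel, hπone] }
      map_one' := Equiv.ext hπone
      map_mul' := fun c d => Equiv.ext (hπmul c d) }
  let ι := Fintype.equivFin O
  refine ⟨Fintype.card O, ι.permCongrHom.toMonoidHom.comp ψ, ?_, fun c => ?_, fun c hc => ?_⟩
  · rw [P.card_eq_card_quotient_normalizer]
    have h1 := Nat.card_congr e
    rw [Nat.card_prod, hP, Nat.card_eq_fintype_card (α := O),
      Nat.card_eq_fintype_card (α := {a : G ⧸ N // a ≠ b})] at h1
    have h2 : Fintype.card {a : G ⧸ N // a ≠ b} = Fintype.card (G ⧸ N) - 1 := by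
      rw [Fintype.card_subtype, Finset.filter_ne', Finset.card_erase_of_mem (Finset.mem_univ _),
        Finset.card_univ]
    rw [h2] at h1
    have h3 : 0 < Fintype.card (G ⧸ N) := Fintype.card_pos_iff.mpr ⟨b⟩
    show Fintype.card O * p + 1 = Nat.card (G ⧸ N)
    rw [h1, Nat.card_eq_fintype_card]
    omega
  · show Equiv.Perm.sign (ι.permCongr (ψ c)) = 1
    rw [Equiv.Perm.sign_permCongr]
    set σ : Equiv.Perm (G ⧸ N) := MulAction.toPermHom G (G ⧸ N) (c : G) with hσ
    have hσ1 : Equiv.Perm.sign σ = 1 := sign_hom_eq_one hG _ _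
    have hσb : σ b = b := hNb _ (centralizer_le_normalizer _ c.2)
    have hiff : ∀ a, σ a ≠ b ↔ a ≠ b := fun a => not_congr ⟨fun h => σ.injective (h.trans hσb.symm),
      fun h => h ▸ hσb⟩
    have hsub : Equiv.Perm.sign (σ.subtypePerm (p := fun a => a ≠ b) hiff) = 1 := by
      rw [Equiv.Perm.sign_subtypePerm σ (p := fun a => a ≠ b) hiff (fun a ha h => ha (by rw [h, hσb])), hσ1]
    let τ : Equiv.Perm (O × ↥(P : Subgroup G)) :=
      (Equiv.prodCongrRight fun ω => Equiv.mulRight (img c ω).2).trans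
        (Equiv.prodCongrLeft fun _ => ψ c)
    have hτ : τ = e.symm.permCongr (σ.subtypePerm (p := fun a => a ≠ b) hiff) := by
      refine Equiv.ext fun q => e.injective (Subtype.ext ?_)
      rw [Equiv.permCongr_apply, Equiv.symm_symm, Equiv.apply_symm_apply]
      show (q.2 * (img c q.1).2) • (π c q.1).1.out = (c : G) • q.2 • q.1.1.out
      rw [hcomm, ← himg, mul_smul]
    have hsτ : Equiv.Perm.sign τ = 1 := by rw [hτ, Equiv.Perm.sign_permCongr, hsub]
    have hodd : Odd (Nat.card ↥(P : Subgroup G)) := by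
      rw [hP]; exact hp.out.odd_of_ne_two hp2
    simp only [τ, Equiv.Perm.sign_trans, Equiv.Perm.sign_prodCongrLeft,
      Equiv.Perm.sign_prodCongrRight, sign_mulRight_eq_one hodd, Finset.prod_const_one, mul_one,
      Finset.prod_const, Finset.card_univ, ← Nat.card_eq_fintype_card, hP] at hsτ
    rcases Int.units_eq_one_or (Equiv.Perm.sign (ψ c)) with h | h
    · exact h
    · rw [h, (hp.out.odd_of_ne_two hp2).neg_one_pow] at hsτ
      exact absurd hsτ (by decide)
  · have hfix : ∀ ω, π c ω = ω := fun ω => by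
      have h : ι.permCongr (ψ c) = 1 := hc
      have h1 := Equiv.ext_iff.mp h (ι ω)
      simp only [Equiv.permCongr_apply, Equiv.symm_apply_apply, Equiv.Perm.one_apply] at h1
      exact ι.injective h1
    have hpow : ∀ (k : ℕ) (ω : O),
        ((c ^ k : C) : G) • ω.1.out = (img c ω).2 ^ k • ω.1.out := by
      intro k ω
      induction k with
      | zero => simp
      | succ k ih =>
        rw [pow_succ', Subgroup.coe_mul, mul_smul, ih, hcomm, ← himg, show (img c ω).1 = ω from
          hfix ω, ← mul_smul, ← pow_succ]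
    apply Subtype.ext
    apply toPerm_injective (H := N) ?_
    · rw [OneMemClass.coe_one, map_one]
      refine Equiv.ext fun a => ?_
      show ((c ^ p : C) : G) • a = a
      by_cases ha : a = b
      · rw [ha]
        exact hNb _ (centralizer_le_normalizer _ (c ^ p).2)
      · obtain ⟨⟨ω, u⟩, hq⟩ := he₀.2 ⟨a, ha⟩
        rw [← show u • ω.1.out = a from congrArg Subtype.val hq, hcomm, hpow]
        have hp1 := pow_card_eq_one' (x := (img c ω).2)
        rw [hP] at hp1
        rw [hp1, one_smul]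
    · intro h
      exact card_sylow_ne_one hG (hP ▸ card_subgroup_dvd_card _)
        (by rw [P.card_eq_index_normalizer]; exact index_eq_one.mpr h)

/-- `|C(P)|` divides `p |Alt n|`, `n = (n_p - 1) / p`. -/
theorem card_centralizer_dvd [IsSimpleGroup G] (hG : ¬ IsMulCommutative G) (P : Sylow p G)
    (hP : Nat.card ↥(P : Subgroup G) = p) (hp2 : p ≠ 2) {n : ℕ}
    (hn : Nat.card (Sylow p G) = n * p + 1) :
    Nat.card ↥(centralizer ((P : Subgroup G) : Set G)) ∣
      p * Nat.card (alternatingGroup (Fin n)) := by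
  obtain ⟨n', φ, hn', hsign, hker⟩ := exists_orbit_hom hG P hP hp2
  obtain rfl : n' = n := Nat.eq_of_mul_eq_mul_right hp.out.pos (by omega)
  rw [← (φ.ker).card_mul_index, Subgroup.index_ker]
  refine Nat.mul_dvd_mul ?_ (card_dvd_of_le fun x hx => ?_)
  · have h1 : IsPGroup p φ.ker := fun x => ⟨1, by
      rw [pow_one]; exact Subtype.ext (hker _ x.2)⟩
    have h2 : IsPGroup p (φ.ker.map (centralizer ((P : Subgroup G) : Set G)).subtype) :=
      h1.map _
    obtain ⟨Q, hQ⟩ := h2.exists_le_sylow
    have h3 := card_dvd_of_le hQ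
    rw [Nat.card_congr (Sylow.equiv Q P).toEquiv, hP] at h3
    rwa [card_map_of_injective (subtype_injective _)] at h3
  · obtain ⟨c, rfl⟩ := MonoidHom.mem_range.mp hx
    exact Equiv.Perm.mem_alternatingGroup.mpr (hsign c)

end Cfsg.Agent.SmallGroups
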