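import Cfsg.Agent.Lib.SmallGroups.Order168

/-!
# Classes and Klein four-groups in simple groups of order 168
-/

set_option autoImplicit false

namespace Cfsg.Agent.SmallGroups

open Subgroup

theorem orderOf_eq_of_isConj {G : Type*} [Group G] {x y : G} (h : IsConj x y) :
    orderOf y = orderOf x := by
  obtain ⟨d, hd⟩ := isConj_iff.mp h
  rw [← hd]
  exact orderOf_injective (MulAut.conj d).toMonoidHom (MulEquiv.injective _) x

namespace Order168

variable {G : Type*} [Group G] [Finite G] [IsSimpleGroup G] (h : Nat.card G = 168)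

include h

theorem card_seven : Nat.card {g : G // orderOf g = 7} = 48 := by
  have : Fact (Nat.Prime 7) := ⟨by norm_num⟩
  rw [card_orderOf_eq (card_sylow_seven h), n_seven h]

theorem class_seven {x : G} (hx : orderOf x = 7) :
    Nat.card {g : G // IsConj x g} = 24 ∧ ¬ IsConj x x⁻¹ := by
  have : Fact (Nat.Prime 7) := ⟨by norm_num⟩
  constructor
  · have := card_conj_mul_centralizer x
    rw [centralizer_singleton_seven h hx, Nat.card_zpowers, hx, h] at this
    omega
  · intro hconj
    obtain ⟨g, hg⟩ := isConj_iff.mp hconj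
    obtain ⟨P, hP⟩ := exists_mem_sylow hx
    have hx1 : x ≠ 1 := fun h1 => by rw [h1, orderOf_one] at hx; norm_num at hx
    have hzp := zpowers_eq_of_card_prime (card_sylow_seven h P) hP hx1
    -- `g` has odd order inside `N(P)` yet inverts `x`
    have hgN : g ∈ normalizer ((P : Subgroup G) : Set G) := by
      have hmap : (P : Subgroup G).map (MulAut.conj g).toMonoidHom = P := by
        rw [← hzp, MonoidHom.map_zpowers]
        change zpowers (g * x * g⁻¹) = zpowers x
        rw [hg, zpowers_inv]
      rw [mem_normalizer_iff]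
      intro u
      constructor
      · intro hu
        rw [← hmap]
        exact ⟨u, hu, rfl⟩
      · intro hu
        rw [← hmap] at hu
        obtain ⟨v, hv, hvu⟩ := hu
        exact (MulAut.conj g).injective hvu ▸ hv
    have hodd : Odd (orderOf g) := by
      have := Subgroup.orderOf_dvd_natCard _ hgN
      rw [card_normalizer_seven h P] at this
      exact Odd.of_dvd_nat (by decide) this
    have key : ∀ n : ℕ, g ^ (2 * n) * x * (g ^ (2 * n))⁻¹ = x := by
      intro n
      induction n with
      | zero => simp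
      | succ n ih =>
        have h2 : g ^ (2 * (n + 1)) = g * g * g ^ (2 * n) := by
          rw [← pow_two, ← pow_add]; ring_nf
        rw [h2]
        calc g * g * g ^ (2 * n) * x * (g * g * g ^ (2 * n))⁻¹
            = g * (g * (g ^ (2 * n) * x * (g ^ (2 * n))⁻¹) * g⁻¹) * g⁻¹ := by group
          _ = g * x⁻¹ * g⁻¹ := by rw [ih, hg]
          _ = (g * x * g⁻¹)⁻¹ := by group
          _ = x := by rw [hg, inv_inv]
    obtain ⟨n, hn⟩ := hodd
    have h1 : g ^ (2 * n + 1) = 1 := hn ▸ pow_orderOf_eq_one g
    have hgx : g⁻¹ * x * g = x := by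
      have h2 : g ^ (2 * n) = g⁻¹ := eq_inv_of_mul_eq_one_left (by rw [← pow_succ]; exact h1)
      have := key n
      rwa [h2, inv_inv] at this
    have : x⁻¹ = x := by
      rw [← hg]
      calc g * x * g⁻¹ = g * (g⁻¹ * x * g) * g⁻¹ := by rw [hgx]
        _ = x := by group
    have h3 : orderOf x ∣ 2 := orderOf_dvd_of_pow_eq_one (by
      rw [pow_two]; nth_rw 1 [← this]; exact inv_mul_cancel x)
    rw [hx] at h3
    norm_num at h3

/-- Existence of an element of order 4 with centraliser of order 4. -/
theorem exists_four : ∃ u : G, orderOf u = 4 ∧ Nat.card {g : G // IsConj u g} = 42 := by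
  have : Fact (Nat.Prime 2) := ⟨Nat.prime_two⟩
  obtain ⟨T⟩ := (inferInstance : Nonempty (Sylow 2 G))
  obtain ⟨e⟩ := dihedral h T
  set v := e.symm (DihedralGroup.r 1)
  have hv : orderOf (v : G) = 4 := by
    rw [orderOf_coe, MulEquiv.orderOf_eq, DihedralGroup.orderOf_r_one]
  refine ⟨v, hv, ?_⟩
  have hv1 : (v : G) ≠ 1 := fun h1 => by rw [h1, orderOf_one] at hv; norm_num at hv
  have hd := dvd_eight_of_commute h hv1 (by rw [hv]; norm_num)
  have h4 : 4 ∣ Nat.card ↥(centralizer ({(v : G)} : Set G)) :=
    hv ▸ Subgroup.orderOf_dvd_natCard _ (mem_centralizer_singleton_iff.mpr rfl)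
  have hne : Nat.card ↥(centralizer ({(v : G)} : Set G)) ≠ 8 := by
    intro h8
    obtain ⟨S, hS⟩ := (IsPGroup.of_card (p := 2) (n := 3) (by rw [h8]; norm_num) :
      IsPGroup 2 ↥(centralizer ({(v : G)} : Set G))).exists_le_sylow
    have hSeq : centralizer ({(v : G)} : Set G) = (S : Subgroup G) :=
      eq_of_le_of_card_ge hS (by rw [h8, card_sylow_two h S])
    have hvS : (v : G) ∈ (S : Subgroup G) := hSeq ▸ mem_centralizer_singleton_iff.mpr rfl
    obtain ⟨e'⟩ := dihedral h S
    have hcomm : ∀ w, e' ⟨v, hvS⟩ * w = w * e' ⟨v, hvS⟩ := by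
      intro w
      obtain ⟨⟨t, ht⟩, rfl⟩ := e'.surjective w
      rw [← map_mul, ← map_mul]
      have htC : t ∈ centralizer ({(v : G)} : Set G) := by rw [hSeq]; exact ht
      exact congrArg e' (Subtype.ext (mem_centralizer_singleton_iff.mp htC).symm)
    have hord : orderOf (e' ⟨v, hvS⟩) = 4 := by
      rw [MulEquiv.orderOf_eq, ← orderOf_coe]
      exact hv
    have hd4 : ∀ a : DihedralGroup 4, (∀ w, a * w = w * a) → a * a = 1 := by decide
    have h2 : orderOf (e' ⟨v, hvS⟩) ∣ 2 :=
      orderOf_dvd_of_pow_eq_one (by rw [pow_two]; exact hd4 _ hcomm)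
    rw [hord] at h2
    norm_num at h2
  obtain ⟨c, hc⟩ := h4
  have hle := Nat.le_of_dvd (by norm_num) hd
  have hpos : 0 < Nat.card ↥(centralizer ({(v : G)} : Set G)) := Nat.card_pos
  have hC : Nat.card ↥(centralizer ({(v : G)} : Set G)) = 4 := by omega
  have := card_conj_mul_centralizer (v : G)
  rw [hC, h] at this
  omega

theorem exists_two : ∃ z : G, orderOf z = 2 ∧ Nat.card {g : G // IsConj z g} = 21 := by
  have : Fact (Nat.Prime 2) := ⟨Nat.prime_two⟩
  obtain ⟨T⟩ := (inferInstance : Nonempty (Sylow 2 G))
  obtain ⟨z, -, -, hz, hzC⟩ := center_two h T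
  refine ⟨z, hz, ?_⟩
  have := card_conj_mul_centralizer z
  rw [hzC, card_sylow_two h T, h] at this
  omega

/-- The whole class partition: orders and conjugacy of 2-elements. -/
theorem classification : ∃ z u : G, orderOf z = 2 ∧ orderOf u = 4 ∧
    Nat.card {g : G // IsConj z g} = 21 ∧ Nat.card {g : G // IsConj u g} = 42 ∧
    ∀ g : G, g = 1 ∨ IsConj z g ∨ IsConj u g ∨ orderOf g = 3 ∨ orderOf g = 7 := by
  classical
  obtain ⟨z, hz, hz21⟩ := exists_two h
  obtain ⟨u, hu, hu42⟩ := exists_four h
  refine ⟨z, u, hz, hu, hz21, hu42, ?_⟩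
  have := Fintype.ofFinite G
  set A := Finset.univ.filter fun g : G => IsConj z g
  set B := Finset.univ.filter fun g : G => IsConj u g
  set C := Finset.univ.filter fun g : G => orderOf g = 3
  set D := Finset.univ.filter fun g : G => orderOf g = 7
  have hA : A.card = 21 := by
    rw [← hz21, Nat.card_eq_fintype_card, Fintype.card_subtype]
  have hB : B.card = 42 := by
    rw [← hu42, Nat.card_eq_fintype_card, Fintype.card_subtype]
  have hC : C.card = 56 := by
    rw [← card_three h, Nat.card_eq_fintype_card, Fintype.card_subtype]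
  have hD : D.card = 48 := by
    rw [← card_seven h, Nat.card_eq_fintype_card, Fintype.card_subtype]
  have hoA : ∀ g ∈ A, orderOf g = 2 := fun g hg =>
    (orderOf_eq_of_isConj (Finset.mem_filter.mp hg).2).trans hz
  have hoB : ∀ g ∈ B, orderOf g = 4 := fun g hg =>
    (orderOf_eq_of_isConj (Finset.mem_filter.mp hg).2).trans hu
  have d1 : Disjoint ({1} : Finset G) (A ∪ B ∪ C ∪ D) := by
    rw [Finset.disjoint_singleton_left]
    simp only [Finset.mem_union]
    rintro (((h1 | h1) | h1) | h1)
    · have := hoA _ h1; rw [orderOf_one] at this; omega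
    · have := hoB _ h1; rw [orderOf_one] at this; omega
    · have := (Finset.mem_filter.mp h1).2; rw [orderOf_one] at this; omega
    · have := (Finset.mem_filter.mp h1).2; rw [orderOf_one] at this; omega
  have d2 : Disjoint A B := Finset.disjoint_left.mpr fun g h1 h2 => by
    have := hoA _ h1; have := hoB _ h2; omega
  have d3 : Disjoint (A ∪ B) C := Finset.disjoint_left.mpr fun g h1 h2 => by
    have := (Finset.mem_filter.mp h2).2
    rcases Finset.mem_union.mp h1 with h1 | h1
    · have := hoA _ h1; omega
    · have := hoB _ h1; omega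
  have d4 : Disjoint (A ∪ B ∪ C) D := Finset.disjoint_left.mpr fun g h1 h2 => by
    have := (Finset.mem_filter.mp h2).2
    rcases Finset.mem_union.mp h1 with h1 | h1
    · rcases Finset.mem_union.mp h1 with h1 | h1
      · have := hoA _ h1; omega
      · have := hoB _ h1; omega
    · have := (Finset.mem_filter.mp h1).2; omega
  have hall : ({1} : Finset G) ∪ (A ∪ B ∪ C ∪ D) = Finset.univ := by
    apply Finset.eq_univ_of_card
    rw [Finset.card_union_of_disjoint d1, Finset.card_union_of_disjoint d4,
      Finset.card_union_of_disjoint d3, Finset.card_union_of_disjoint d2, hA, hB, hC, hD,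
      ← Nat.card_eq_fintype_card, h]
    rfl
  intro g
  have hg := hall.ge (Finset.mem_univ g)
  simp only [A, B, C, D, Finset.mem_union, Finset.mem_singleton, Finset.mem_filter,
    Finset.mem_univ, true_and] at hg
  tauto

theorem orders (g : G) : orderOf g = 1 ∨ orderOf g = 2 ∨ orderOf g = 3 ∨ orderOf g = 4 ∨
    orderOf g = 7 := by
  obtain ⟨z, u, hz, hu, -, -, hall⟩ := classification h
  rcases hall g with rfl | h1 | h1 | h1 | h1
  · simp
  · exact Or.inr (Or.inl ((orderOf_eq_of_isConj h1).trans hz))
  · exact Or.inr (Or.inr (Or.inr (Or.inl ((orderOf_eq_of_isConj h1).trans hu))))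
  · exact Or.inr (Or.inr (Or.inl h1))
  · exact Or.inr (Or.inr (Or.inr (Or.inr h1)))

theorem conj_two {s t : G} (hs : orderOf s = 2) (ht : orderOf t = 2) : IsConj s t := by
  obtain ⟨z, u, hz, hu, -, -, hall⟩ := classification h
  have : ∀ g : G, orderOf g = 2 → IsConj z g := by
    intro g hg
    rcases hall g with rfl | h1 | h1 | h1 | h1
    · rw [orderOf_one] at hg; omega
    · exact h1
    · have := (orderOf_eq_of_isConj h1).trans hu; omega
    · omega
    · omega
  exact (this s hs).symm.trans (this t ht)

theorem conj_four {s t : G} (hs : orderOf s = 4) (ht : orderOf t = 4) : IsConj s t := by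
  obtain ⟨z, u, hz, hu, -, -, hall⟩ := classification h
  have : ∀ g : G, orderOf g = 4 → IsConj u g := by
    intro g hg
    rcases hall g with rfl | h1 | h1 | h1 | h1
    · rw [orderOf_one] at hg; omega
    · have := (orderOf_eq_of_isConj h1).trans hz; omega
    · exact h1
    · omega
    · omega
  exact (this s hs).symm.trans (this t ht)

theorem conj_three {s t : G} (hs : orderOf s = 3) (ht : orderOf t = 3) : IsConj s t := by
  classical
  have := Fintype.ofFinite G
  have hsub : (Finset.univ.filter fun g : G => IsConj s g) =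
      Finset.univ.filter fun g : G => orderOf g = 3 := by
    refine Finset.eq_of_subset_of_card_le (fun g hg => ?_) ?_
    · simp only [Finset.mem_filter, Finset.mem_univ, true_and] at hg ⊢
      exact (orderOf_eq_of_isConj hg).trans hs
    · rw [← Fintype.card_subtype, ← Fintype.card_subtype, ← Nat.card_eq_fintype_card,
        ← Nat.card_eq_fintype_card, (class_three h hs).1, card_three h]
  have : t ∈ Finset.univ.filter fun g : G => IsConj s g := by
    rw [hsub]; simp [ht]
  simpa using this

theorem card_two : Nat.card {g : G // orderOf g = 2} = 21 := by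
  obtain ⟨z, hz, hz21⟩ := exists_two h
  rw [← hz21]
  exact Nat.card_congr (Equiv.subtypeEquivRight fun g =>
    ⟨fun hg => conj_two h hz hg, fun hg => (orderOf_eq_of_isConj hg).trans hz⟩)

theorem card_four : Nat.card {g : G // orderOf g = 4} = 42 := by
  obtain ⟨z, hz, hz42⟩ := exists_four h
  rw [← hz42]
  exact Nat.card_congr (Equiv.subtypeEquivRight fun g =>
    ⟨fun hg => conj_four h hz hg, fun hg => (orderOf_eq_of_isConj hg).trans hz⟩)

theorem card_centralizer_two {s : G} (hs : orderOf s = 2) :
    Nat.card ↥(centralizer ({s} : Set G)) = 8 := by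
  obtain ⟨z, hz, hz21⟩ := exists_two h
  have h1 : Nat.card {g : G // IsConj s g} = 21 := by
    rw [← hz21]
    exact Nat.card_congr (Equiv.subtypeEquivRight fun g =>
      ⟨fun hg => (conj_two h hz hs).trans hg, fun hg => (conj_two h hs hz).trans hg⟩)
  have := card_conj_mul_centralizer s
  rw [h1, h] at this
  omega

end Order168

end Cfsg.Agent.SmallGroups
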