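import Cfsg.Agent.Lib.SmallGroups.Order168Classes
import Mathlib.GroupTheory.SpecificGroups.Alternating.KleinFour

/-!
# Klein four-groups and maximal subgroups in simple groups of order 168
-/

set_option autoImplicit false

namespace Cfsg.Agent.SmallGroups

open Subgroup

/-- The two Klein four-subgroups of the dihedral group of order 8, as finsets. -/
theorem dihedralFour_klein_count :
    (Finset.univ.filter fun S : Finset (DihedralGroup 4) =>
      S.card = 4 ∧ (1 : DihedralGroup 4) ∈ S ∧
        (∀ x ∈ S, x * x = 1) ∧ ∀ x ∈ S, ∀ y ∈ S, x * y ∈ S).card = 2 := by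
  decide +kernel

theorem card_klein_dihedralFour :
    Nat.card {U : Subgroup (DihedralGroup 4) // IsKleinFour ↥U} = 2 := by
  classical
  rw [← dihedralFour_klein_count, ← Nat.card_eq_finsetCard]
  refine Nat.card_congr (Equiv.ofBijective
    (fun U => ⟨(U.1 : Set (DihedralGroup 4)).toFinset, ?_⟩) ⟨?_, ?_⟩)
  · have := U.2
    simp only [Finset.mem_filter, Finset.mem_univ, true_and, Set.mem_toFinset, SetLike.mem_coe]
    refine ⟨?_, U.1.one_mem, fun x hx => ?_, fun x hx y hy => U.1.mul_mem hx hy⟩
    · rw [Set.toFinset_card, ← Nat.card_eq_fintype_card]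
      exact IsKleinFour.card_four
    · exact congrArg Subtype.val (IsKleinFour.mul_self (⟨x, hx⟩ : U.1))
  · intro U V hUV
    exact Subtype.ext (SetLike.coe_injective (Set.toFinset_inj.mp (congrArg Subtype.val hUV)))
  · rintro ⟨S, hS⟩
    simp only [Finset.mem_filter, Finset.mem_univ, true_and] at hS
    obtain ⟨hc, h1, hsq, hmul⟩ := hS
    let U : Subgroup (DihedralGroup 4) :=
      { carrier := S
        one_mem' := h1
        mul_mem' := fun {a b} ha hb => hmul a ha b hb
        inv_mem' := fun {a} ha => by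
          rw [inv_eq_of_mul_eq_one_right (hsq a ha)]; exact ha }
    have hU4 : Nat.card U = 4 :=
      ((Nat.card_congr (Equiv.refl _)).trans (Nat.card_eq_finsetCard S)).trans hc
    have hexp : Monoid.exponent U = 2 := by
      have : Nontrivial U := Finite.one_lt_card_iff_nontrivial.mp (by omega)
      refine (Monoid.exponent_eq_prime_iff Nat.prime_two).mpr fun g hg => ?_
      exact orderOf_eq_prime (by rw [pow_two]; exact Subtype.ext (hsq g.1 g.2)) hg
    refine ⟨⟨U, ⟨hU4, hexp⟩⟩, Subtype.ext ?_⟩
    ext x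
    simp [U]

theorem isKleinFour_of_mulEquiv {A B : Type*} [Group A] [Group B] (e : A ≃* B) [IsKleinFour A] :
    IsKleinFour B :=
  ⟨(Nat.card_congr e.toEquiv).symm.trans IsKleinFour.card_four,
    (Monoid.exponent_eq_of_mulEquiv e).symm.trans IsKleinFour.exponent_two⟩

namespace Order168

variable {G : Type*} [Group G] [Finite G] [IsSimpleGroup G] (h : Nat.card G = 168)

include h

theorem card_klein_le [Fact (Nat.Prime 2)] (T : Sylow 2 G) :
    Nat.card {U : Subgroup G // U ≤ (T : Subgroup G) ∧ IsKleinFour ↥U} = 2 := by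
  obtain ⟨e⟩ := dihedral h T
  refine Eq.trans ?_ card_klein_dihedralFour
  refine Nat.card_congr
    { toFun := fun U => ⟨(U.1.subgroupOf (T : Subgroup G)).map e.toMonoidHom, ?_⟩
      invFun := fun V => ⟨(V.1.map e.symm.toMonoidHom).map (T : Subgroup G).subtype,
        map_subtype_le _, ?_⟩
      left_inv := fun U => ?_
      right_inv := fun V => ?_ }
  · have := U.2.2
    exact isKleinFour_of_mulEquiv ((subgroupOfEquivOfLe U.2.1).symm.trans
      ((U.1.subgroupOf (T : Subgroup G)).equivMapOfInjective _ e.injective))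
  · have := V.2
    exact isKleinFour_of_mulEquiv ((V.1.equivMapOfInjective _ e.symm.injective).trans
      ((V.1.map e.symm.toMonoidHom).equivMapOfInjective _ (T : Subgroup G).subtype_injective))
  · refine Subtype.ext ?_
    dsimp only
    rw [map_map (g := e.symm.toMonoidHom),
      show e.symm.toMonoidHom.comp e.toMonoidHom = MonoidHom.id _ from
        MonoidHom.ext e.symm_apply_apply, Subgroup.map_id, subgroupOf_map_subtype]
    exact inf_eq_left.mpr U.2.1
  · refine Subtype.ext ?_
    dsimp only
    rw [subgroupOf, comap_map_eq_self_of_injective (subtype_injective _), map_map,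
      show e.toMonoidHom.comp e.symm.toMonoidHom = MonoidHom.id _ from
        MonoidHom.ext e.apply_symm_apply, Subgroup.map_id]

theorem exists_sylow_klein {U : Subgroup G} (hU : IsKleinFour ↥U) [Fact (Nat.Prime 2)] :
    ∃ T : Sylow 2 G, U ≤ (T : Subgroup G) :=
  (IsPGroup.of_card (p := 2) (n := 2) (IsKleinFour.card_four (G := ↥U))).exists_le_sylow

theorem le_normalizer_klein [Fact (Nat.Prime 2)] {U : Subgroup G} (hU : IsKleinFour ↥U)
    {T : Sylow 2 G} (hle : U ≤ (T : Subgroup G)) :
    (T : Subgroup G) ≤ normalizer (U : Set G) := by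
  have hidx : (U.subgroupOf (T : Subgroup G)).index = 2 := by
    have h1 := (U.subgroupOf (T : Subgroup G)).card_mul_index
    rw [Nat.card_congr (subgroupOfEquivOfLe hle).toEquiv, IsKleinFour.card_four,
      card_sylow_two h T] at h1
    omega
  exact (normal_subgroupOf_iff_le_normalizer hle).mp (normal_of_index_eq_two hidx)

/-- The normaliser of a Klein four-group has order 24. -/
theorem card_normalizer_klein {U : Subgroup G} (hU : IsKleinFour ↥U) :
    Nat.card ↥(normalizer (U : Set G)) = 24 := by
  have : Fact (Nat.Prime 2) := ⟨Nat.prime_two⟩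
  have : Fact (Nat.Prime 7) := ⟨by norm_num⟩
  obtain ⟨T, hUT⟩ := exists_sylow_klein h hU
  obtain ⟨z, hzT, hz1, hz, hzC⟩ := center_two h T
  set N := normalizer (U : Set G)
  have hTN : (T : Subgroup G) ≤ N := le_normalizer_klein h hU hUT
  -- an involution of `U` other than `z`
  obtain ⟨s, hs, hs1, hsz⟩ : ∃ s ∈ U, s ≠ 1 ∧ s ≠ z := by
    classical
    by_contra hcon
    push_neg at hcon
    have hle : Nat.card U ≤ Nat.card (({1, z} : Finset G) : Set G) := by
      refine Nat.card_le_card_of_injective (fun u => ⟨u.1, ?_⟩)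
        fun a b hab => Subtype.ext (congrArg (fun v : (({1, z} : Finset G) : Set G) => v.1) hab)
      by_cases hu : u.1 = 1
      · simp [hu]
      · simp [hcon u.1 u.2 hu]
    rw [IsKleinFour.card_four (G := ↥U), Nat.card_eq_fintype_card] at hle
    simp only [Finset.coe_sort_coe, Fintype.card_coe] at hle
    have := Finset.card_le_two (a := (1 : G)) (b := z)
    omega
  have hs2 : orderOf s = 2 := orderOf_eq_prime
    (by rw [pow_two]; exact congrArg Subtype.val (IsKleinFour.mul_self (⟨s, hs⟩ : U))) hs1
  -- `C(s)` is another Sylow subgroup containing `U`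
  obtain ⟨S, hS⟩ := (IsPGroup.of_card (p := 2) (n := 3) (by rw [card_centralizer_two h hs2]; norm_num) :
    IsPGroup 2 ↥(centralizer ({s} : Set G))).exists_le_sylow
  have hSeq : centralizer ({s} : Set G) = (S : Subgroup G) :=
    eq_of_le_of_card_ge hS (by rw [card_centralizer_two h hs2, card_sylow_two h S])
  have hUS : U ≤ (S : Subgroup G) := by
    intro u hu
    rw [← hSeq, mem_centralizer_singleton_iff]
    exact congrArg Subtype.val
      (mul_comm_of_exponent_two (IsKleinFour.exponent_two (G := ↥U)) ⟨u, hu⟩ ⟨s, hs⟩)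
  have hSN : (S : Subgroup G) ≤ N := le_normalizer_klein h hU hUS
  have hne : S ≠ T := by
    intro hST
    -- two central involutions in a dihedral group of order 8
    obtain ⟨e⟩ := dihedral h T
    have hcT : ∀ t : G, t ∈ (T : Subgroup G) → t * z = z * t ∧ t * s = s * t := by
      intro t ht
      exact ⟨mem_centralizer_singleton_iff.mp (hzC.ge ht),
        mem_centralizer_singleton_iff.mp (by rw [hSeq, hST]; exact ht)⟩
    have hd4 : ∀ a b : DihedralGroup 4, a ≠ 1 → b ≠ 1 →
        (∀ w, w * a = a * w) → (∀ w, w * b = b * w) → a = b := by decide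
    apply hsz
    have hsT : s ∈ (T : Subgroup G) := hUT hs
    have := hd4 (e ⟨s, hsT⟩) (e ⟨z, hzT⟩)
      (fun h1 => hs1 (congrArg Subtype.val ((map_eq_one_iff e e.injective).mp h1)))
      (fun h1 => hz1 (congrArg Subtype.val ((map_eq_one_iff e e.injective).mp h1)))
      (fun w => by
        obtain ⟨⟨t, ht⟩, rfl⟩ := e.surjective w
        rw [← map_mul, ← map_mul]
        exact congrArg e (Subtype.ext (hcT t ht).2))
      (fun w => by
        obtain ⟨⟨t, ht⟩, rfl⟩ := e.surjective w
        rw [← map_mul, ← map_mul]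
        exact congrArg e (Subtype.ext (hcT t ht).1))
    exact congrArg Subtype.val (e.injective this)
  have h8 : 8 ∣ Nat.card ↥N := card_sylow_two h T ▸ card_dvd_of_le hTN
  have hgt : 8 < Nat.card ↥N := by
    by_contra hle
    have h1 := eq_of_le_of_card_ge hTN (by rw [card_sylow_two h T]; omega)
    refine hne (Sylow.ext ((eq_of_le_of_card_ge (hSN.trans h1.ge) ?_)))
    rw [card_sylow_two h, card_sylow_two h]
  have hNtop : N ≠ ⊤ := by
    intro htop
    have hn : U.Normal := normalizer_eq_top_iff.mp htop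
    rcases hn.eq_bot_or_eq_top with h1 | h1
    · have := IsKleinFour.card_four (G := ↥U)
      rw [h1, Subgroup.card_bot] at this; omega
    · have := IsKleinFour.card_four (G := ↥U)
      rw [h1, Subgroup.card_top, h] at this; omega
  have hidx := lt_index h hNtop
  have hmul := N.card_mul_index
  rw [h] at hmul
  obtain ⟨c, hc⟩ := h8
  rw [hc] at hmul hgt
  have h21 : c * N.index = 21 := by linarith
  have hcd : c ∣ 21 := Dvd.intro _ h21
  have hcle : c ≤ 21 := Nat.le_of_dvd (by norm_num) hcd
  rw [hc]
  interval_cases c <;> omega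

theorem nonempty_normalizer_klein {U : Subgroup G} (hU : IsKleinFour ↥U) :
    Nonempty (↥(normalizer (U : Set G)) ≃* Equiv.Perm (Fin 4)) :=
  Cfsg.Agent.S1012.result (card_normalizer_klein h hU)
    fun g hg => orderOf_ne_six h (g : G) ((orderOf_coe g).trans hg)

theorem klein_not_conj [Fact (Nat.Prime 2)] {T : Sylow 2 G} {U W : Subgroup G}
    (hU : U ≤ (T : Subgroup G)) (hW : W ≤ (T : Subgroup G)) (hUk : IsKleinFour ↥U)
    (hWk : IsKleinFour ↥W) (hne : U ≠ W) (g : G) : U.map (MulAut.conj g).toMonoidHom ≠ W := by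
  intro hg
  apply hne
  set N := normalizer (W : Set G)
  have hTN : (T : Subgroup G) ≤ N := le_normalizer_klein h hWk hW
  have hTN' : ((g • T : Sylow 2 G) : Subgroup G) ≤ N := by
    refine le_normalizer_klein h hWk ?_
    rw [← hg, Sylow.coe_subgroup_smul, Subgroup.pointwise_smul_def]
    rintro _ ⟨u, hu, rfl⟩
    exact ⟨u, hU hu, rfl⟩
  obtain ⟨n, hn⟩ := MulAction.exists_smul_eq ↥N ((g • T).subtype hTN') (T.subtype hTN)
  rw [Sylow.smul_subtype] at hn
  have h1 : (n : G) • g • T = T := Sylow.subtype_injective hn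
  rw [smul_smul] at h1
  have h2 : (n : G) * g ∈ (T : Subgroup G) := by
    rw [← normalizer_two h T]
    exact Sylow.smul_eq_iff_mem_normalizer.mp h1
  have h3 := le_normalizer_klein h hUk hU h2
  refine eq_of_le_of_card_ge (fun u hu => ?_) (by
    rw [IsKleinFour.card_four (G := ↥U), IsKleinFour.card_four (G := ↥W)])
  have hv : ((n : G) * g)⁻¹ * u * ((n : G) * g) ∈ U := by
    rw [mem_normalizer_iff.mp h3]
    simpa [mul_assoc] using hu
  have hw : g * (((n : G) * g)⁻¹ * u * ((n : G) * g)) * g⁻¹ ∈ W := hg ▸ ⟨_, hv, rfl⟩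
  have h4 := (mem_normalizer_iff.mp n.2 _).mp hw
  simpa [mul_assoc] using h4

/-- A subgroup of order 24 is the normaliser of a Klein four-group. -/
theorem exists_klein_of_card {M : Subgroup G} (hM : Nat.card M = 24) :
    ∃ U : Subgroup G, IsKleinFour ↥U ∧ M = normalizer (U : Set G) := by
  classical
  have : Fact (Nat.Prime 3) := ⟨by norm_num⟩
  obtain ⟨e⟩ := Cfsg.Agent.S1012.result hM
    (fun g hg => orderOf_ne_six h (g : G) ((orderOf_coe g).trans hg))
  -- the normal four-group of `S₄`, pulled back
  let V : Subgroup (Equiv.Perm (Fin 4)) :=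
    (alternatingGroup.kleinFour (Fin 4)).map (alternatingGroup (Fin 4)).subtype
  have hk : IsKleinFour ↥(alternatingGroup.kleinFour (Fin 4)) :=
    alternatingGroup.kleinFour_isKleinFour (by simp)
  have hVk : IsKleinFour ↥V :=
    isKleinFour_of_mulEquiv ((alternatingGroup.kleinFour (Fin 4)).equivMapOfInjective _
      (alternatingGroup (Fin 4)).subtype_injective)
  have hVn : V.Normal := by
    have : (alternatingGroup.kleinFour (Fin 4)).Characteristic :=
      alternatingGroup.characteristic_kleinFour (by simp)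
    exact ConjAct.normal_of_characteristic_of_normal
  set U₀ : Subgroup ↥M := V.map e.symm.toMonoidHom
  have hU₀n : U₀.Normal := hVn.map _ e.symm.surjective
  have hU₀k : IsKleinFour ↥U₀ :=
    isKleinFour_of_mulEquiv (V.equivMapOfInjective _ e.symm.injective)
  refine ⟨U₀.map M.subtype, isKleinFour_of_mulEquiv (U₀.equivMapOfInjective _ M.subtype_injective),
    ?_⟩
  refine eq_of_le_of_card_ge ?_ ?_
  · intro m hm
    rw [mem_normalizer_iff]
    intro u
    constructor
    · rintro ⟨v, hv, rfl⟩
      exact ⟨⟨m, hm⟩ * v * ⟨m, hm⟩⁻¹, hU₀n.conj_mem _ hv _, rfl⟩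
    · rintro ⟨v, hv, hvu⟩
      refine ⟨⟨m, hm⟩⁻¹ * v * ⟨m, hm⟩, by simpa using hU₀n.conj_mem _ hv (⟨m, hm⟩ : ↥M)⁻¹, ?_⟩
      have hvu' : (v : G) = m * u * m⁻¹ := hvu
      simp [hvu', mul_assoc]
  · rw [hM, card_normalizer_klein h
      (isKleinFour_of_mulEquiv (U₀.equivMapOfInjective _ M.subtype_injective))]

end Order168

end Cfsg.Agent.SmallGroups
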