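import Cfsg.Agent.Classification.SmallPSLUnique

/-!
# A smaller search for two-transitive actions with a split point stabiliser

The exchanging element is normalised (`w u ∈ {u, r}`) and only exponents with `e * e = 1` are tested.
-/

set_option autoImplicit false

namespace Cfsg.Agent.SmallGroups

open Cfsg.Agent.Classification

/-- The normalised search. -/
def checkNorm {n : ℕ} (T : Tables n) : Bool :=
  ((List.finRange n).all fun x => decide (x = T.inf) || decide (x = T.o) ||
      (List.range T.m).any (fun i => decide (T.hp i T.u = x) || decide (T.hp i T.r = x))) &&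
  ((List.finRange n).all fun s => decide (s = T.inf) || decide (T.trT s T.o = s)) &&
  (List.range T.m).all fun e => decide (T.hp (e * e % T.m) T.u ≠ T.hT T.u) ||
    [T.u, T.r].all fun k => (List.finRange n).all fun k2 =>
      decide (k2 = T.inf) || decide (k2 = T.o) || !(T.cond (T.wTab e k k2)) ||
        T.good (T.wTab e k k2)

/-- A normalised exchanging element. -/
theorem exists_swap_norm {n : ℕ} {T : Tables n} {G : Type*} [Group G]
    {f : G →* Equiv.Perm (Fin n)} {h : G} {t : Fin n → G} (R : Realises T G f h t)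
    (ho : T.o ≠ T.inf) (hu : T.u ≠ T.inf ∧ T.u ≠ T.o) (hc : checkNorm T = true) :
    ∃ w : G, f w T.inf = T.o ∧ f w T.o = T.inf ∧ (f w T.u = T.u ∨ f w T.u = T.r) := by
  simp only [checkNorm, Bool.and_eq_true, List.all_eq_true, Bool.or_eq_true, decide_eq_true_eq,
    List.any_eq_true, List.mem_range] at hc
  obtain ⟨⟨hcov, hts⟩, -⟩ := hc
  obtain ⟨g, hg⟩ := R.trans T.o
  let y : Fin n := (f g).symm T.inf
  have hy : y ≠ T.inf := by
    intro h'
    have h2 : f g y = T.inf := (f g).apply_symm_apply _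
    rw [h', hg] at h2
    exact ho h2
  have hty : T.trT y T.o = y := (hts y (List.mem_finRange y)).resolve_left hy
  set w := g * t y with hw
  have hw1 : f w T.inf = T.o := by
    rw [hw, map_mul, Equiv.Perm.mul_apply, R.t_apply, R.t_fix, hg]
  have hw2 : f w T.o = T.inf := by
    rw [hw, map_mul, Equiv.Perm.mul_apply, R.t_apply, hty]
    exact (f g).apply_symm_apply _
  obtain ⟨i, hi, hiv⟩ : ∃ i < T.m, T.hp i T.u = f w T.u ∨ T.hp i T.r = f w T.u := by
    rcases hcov (f w T.u) (List.mem_finRange _) with (h' | h') | h'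
    · exact absurd ((f w).injective (h'.trans hw2.symm)) hu.2
    · exact absurd ((f w).injective (h'.trans hw1.symm)) hu.1
    · exact h'
  have hfix : ∀ x, T.hT x = x → f (h ^ i)⁻¹ x = x := fun x hx => by
    rw [map_inv, map_pow, Equiv.Perm.inv_eq_iff_eq]
    exact (Equiv.Perm.pow_apply_eq_self_of_apply_eq_self (by rw [R.h_apply]; exact hx) i).symm
  refine ⟨(h ^ i)⁻¹ * w, ?_, ?_, ?_⟩
  · rw [map_mul, Equiv.Perm.mul_apply, hw1, hfix _ R.h_fix.2]
  · rw [map_mul, Equiv.Perm.mul_apply, hw2, hfix _ R.h_fix.1]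
  · rw [map_mul, Equiv.Perm.mul_apply, map_inv, Equiv.Perm.inv_eq_iff_eq, Equiv.Perm.inv_eq_iff_eq,
      R.hpow_apply, R.hpow_apply]
    exact hiv.imp Eq.symm Eq.symm

/-- The image is generated by the tables. -/
theorem range_eq_of_checkNorm {n : ℕ} {T : Tables n} {G : Type*} [Group G]
    {f : G →* Equiv.Perm (Fin n)} {h : G} {t : Fin n → G} (R : Realises T G f h t)
    (ho : T.o ≠ T.inf) (hu : T.u ≠ T.inf ∧ T.u ≠ T.o)
    (hr : T.r ≠ T.inf ∧ T.r ≠ T.o) (hc : checkNorm T = true) :
    f.range = Subgroup.closure {σ : Equiv.Perm (Fin n) |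
      ⇑σ = T.hT ∨ (∃ s, ⇑σ = T.trT s) ∨ ⇑σ = T.w0} := by
  obtain ⟨w, hw1, hw2, hwv⟩ := exists_swap_norm R ho hu hc
  -- `w` normalises the two point stabiliser
  obtain ⟨e, hem, hwh⟩ : ∃ e < T.m, w * h * w⁻¹ = h ^ e := by
    refine R.fix_two _ ?_ ?_
    · have h1 : (f w).symm T.inf = T.o := (f w).symm_apply_eq.mpr hw2.symm
      rw [map_mul, map_mul, map_inv, Equiv.Perm.mul_apply, Equiv.Perm.mul_apply]
      show f w (f h ((f w).symm T.inf)) = T.inf
      rw [h1, R.h_apply, R.h_fix.2, hw2]
    · have h1 : (f w).symm T.o = T.inf := (f w).symm_apply_eq.mpr hw1.symm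
      rw [map_mul, map_mul, map_inv, Equiv.Perm.mul_apply, Equiv.Perm.mul_apply]
      show f w (f h ((f w).symm T.o)) = T.o
      rw [h1, R.h_apply, R.h_fix.1, hw1]
  have hwi : ∀ (i : ℕ) (x : Fin n), f w (T.hp i x) = T.hp (e * i % T.m) (f w x) := by
    intro i x
    have h1 : w * h ^ i * w⁻¹ = h ^ (e * i % T.m) := by
      rw [← conj_pow, hwh, ← pow_mul]
      exact pow_eq_pow_mod _ R.h_pow
    have h2 : w * h ^ i = h ^ (e * i % T.m) * w := by rw [← h1]; group
    have h3 := congrArg (fun g => f g x) h2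
    simp only [map_mul, Equiv.Perm.mul_apply, R.hpow_apply] at h3
    exact h3
  have hc' := hc
  simp only [checkNorm, Bool.and_eq_true, List.all_eq_true, Bool.or_eq_true, decide_eq_true_eq,
    List.any_eq_true, Bool.not_eq_true', List.mem_range] at hc'
  obtain ⟨⟨hcov, hts⟩, hsearch⟩ := hc'
  have htab : ∀ x, f w x = T.wTab e (f w T.u) (f w T.r) x := by
    intro x
    rw [Tables.wTab]
    split_ifs with h1 h2
    · rw [h1, hw1]
    · rw [h2, hw2]
    · split
      · next i hi =>
        have := List.find?_some hi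
        rw [decide_eq_true_eq] at this
        rw [← hwi, this]
      · next hnone =>
        split
        · next i hi =>
          have := List.find?_some hi
          rw [decide_eq_true_eq] at this
          rw [← hwi, this]
        · next hnone' =>
          exfalso
          rw [List.find?_eq_none] at hnone hnone'
          rcases hcov x (List.mem_finRange x) with (h' | h') | ⟨i, hi, h' | h'⟩
          · exact h1 h'
          · exact h2 h'
          · exact hnone i (List.mem_range.mpr hi) (decide_eq_true h')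
          · exact hnone' i (List.mem_range.mpr hi) (decide_eq_true h')
  have hne : ∀ x, x ≠ T.inf → x ≠ T.o → f w x ≠ T.inf ∧ f w x ≠ T.o := fun x h1 h2 =>
    ⟨fun h' => h2 ((f w).injective (h'.trans hw2.symm)), fun h' => h1 ((f w).injective (h'.trans hw1.symm))⟩
  have hfun : (T.wTab e (f w T.u) (f w T.r)) = ⇑(f w) := funext fun x => (htab x).symm
  -- the tested relation holds
  have hcond : T.cond (T.wTab e (f w T.u) (f w T.r)) = true := by
    rw [hfun]
    simp only [Tables.cond, List.any_eq_true, List.all_eq_true, decide_eq_true_eq, List.mem_range]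
    have htu : T.trT T.u T.o = T.u :=
      (hts T.u (List.mem_finRange _)).resolve_left hu.1
    obtain ⟨a, j, hj, haj⟩ := R.stab ((t (f w T.u) * w)⁻¹ * (w * t T.u * w)) (by
      rw [map_mul, map_inv, Equiv.Perm.mul_apply, Equiv.Perm.inv_eq_iff_eq]
      simp only [map_mul, Equiv.Perm.mul_apply, hw1, R.t_apply, htu]
      have hs : T.trT (f w T.u) T.o = f w T.u :=
        (hts _ (List.mem_finRange _)).resolve_left (hne _ hu.1 hu.2).1
      rw [hs])
    refine ⟨a, List.mem_finRange a, j, hj, fun x _ => ?_⟩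
    have h2 : w * t T.u * w = t (f w T.u) * w * (t a * h ^ j) := by rw [← haj]; group
    have h3 := congrArg (fun g => f g x) h2
    simp only [map_mul, Equiv.Perm.mul_apply, R.t_apply, R.hpow_apply] at h3
    exact h3
  -- the search
  have hgood : T.good (T.wTab e (f w T.u) (f w T.r)) = true := by
    have he1 : T.hp (e * e % T.m) T.u = T.hT T.u := by
      obtain ⟨i, -, hi⟩ := R.fix_two (w * w)
        (by rw [map_mul, Equiv.Perm.mul_apply, hw1, hw2])
        (by rw [map_mul, Equiv.Perm.mul_apply, hw2, hw1])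
      have h1 : h ^ (e * e % T.m) = h := by
        rw [← pow_eq_pow_mod _ R.h_pow, pow_mul, ← hwh, conj_pow, ← hwh,
          show w * (w * h * w⁻¹) * w⁻¹ = w * w * h * (w * w)⁻¹ by group, hi,
          ((Commute.refl h).pow_left i).eq, mul_inv_cancel_right]
      rw [← R.hpow_apply, h1, R.h_apply]
    rcases hsearch e hem with h' | h'
    · exact absurd he1 h'
    · rcases h' (f w T.u) (by rcases hwv with hv | hv <;> rw [hv] <;> simp) (f w T.r)
        (List.mem_finRange _) with ((h' | h') | h') | h'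
      · exact absurd h' (hne _ hr.1 hr.2).1
      · exact absurd h' (hne _ hr.1 hr.2).2
      · rw [hcond] at h'; exact Bool.noConfusion h'
      · exact h'
  rw [hfun] at hgood
  simp only [Tables.good, List.any_eq_true, List.all_eq_true, decide_eq_true_eq, List.mem_range] at hgood
  obtain ⟨j, hj, hwj⟩ := hgood
  have hw0 : ⇑(f (w * (h ^ j)⁻¹)) = T.w0 := by
    funext x
    rw [map_mul, map_inv, Equiv.Perm.mul_apply, hwj _ (List.mem_finRange _)]
    congr 1
    rw [← R.hpow_apply]
    exact (f (h ^ j)).apply_symm_apply x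
  refine le_antisymm ?_ ?_
  · rintro _ ⟨g, rfl⟩
    have hK : ∀ s, f (t s) ∈ Subgroup.closure {σ : Equiv.Perm (Fin n) |
        ⇑σ = T.hT ∨ (∃ s, ⇑σ = T.trT s) ∨ ⇑σ = T.w0} := fun s =>
      Subgroup.subset_closure (Or.inr (Or.inl ⟨s, funext (R.t_apply s)⟩))
    have hKh : f h ∈ Subgroup.closure {σ : Equiv.Perm (Fin n) |
        ⇑σ = T.hT ∨ (∃ s, ⇑σ = T.trT s) ∨ ⇑σ = T.w0} :=
      Subgroup.subset_closure (Or.inl (funext R.h_apply))
    have hKw : f w ∈ Subgroup.closure {σ : Equiv.Perm (Fin n) |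
        ⇑σ = T.hT ∨ (∃ s, ⇑σ = T.trT s) ∨ ⇑σ = T.w0} := by
      have h1 : f w = f (w * (h ^ j)⁻¹) * f h ^ j := by
        rw [← map_pow, ← map_mul, inv_mul_cancel_right]
      rw [h1]
      exact Subgroup.mul_mem _ (Subgroup.subset_closure (Or.inr (Or.inr hw0))) (Subgroup.pow_mem _ hKh j)
    by_cases hg : f g T.inf = T.inf
    · obtain ⟨s, i, -, rfl⟩ := R.stab g hg
      rw [map_mul, map_pow]
      exact Subgroup.mul_mem _ (hK s) (Subgroup.pow_mem _ hKh i)
    · have hty : T.trT (f g T.inf) T.o = f g T.inf :=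
        (hts _ (List.mem_finRange _)).resolve_left hg
      obtain ⟨s, i, -, hsi⟩ := R.stab ((t (f g T.inf) * w)⁻¹ * g) (by
        rw [map_mul, map_inv, Equiv.Perm.mul_apply, Equiv.Perm.inv_eq_iff_eq]
        simp only [map_mul, Equiv.Perm.mul_apply, hw1, R.t_apply, hty])
      have h1 : g = t (f g T.inf) * w * (t s * h ^ i) := by rw [← hsi]; group
      rw [h1, map_mul, map_mul, map_mul, map_pow]
      exact Subgroup.mul_mem _ (Subgroup.mul_mem _ (hK _) hKw)
        (Subgroup.mul_mem _ (hK s) (Subgroup.pow_mem _ hKh i))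
  · rw [Subgroup.closure_le]
    rintro σ (hσ | ⟨s, hσ⟩ | hσ)
    · exact ⟨h, Equiv.ext fun x => by rw [R.h_apply, hσ]⟩
    · exact ⟨t s, Equiv.ext fun x => by rw [R.t_apply, hσ]⟩
    · exact ⟨w * (h ^ j)⁻¹, Equiv.ext fun x => by rw [hw0, hσ]⟩


end Cfsg.Agent.SmallGroups
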