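import Cfsg.Agent.Lib.SmallGroups.PSLSearch

/-!
# Table for the uniqueness of the simple group of order `(19 + 1) 19 (19 - 1) / 2`
-/

set_option autoImplicit false

namespace Cfsg.Agent.SmallGroups

open Cfsg.Agent.Classification

/-- The table. -/
def tables19 : Tables (19 + 1) := primeTables 19 4 2 9 9 ![19, 18, 9, 6, 14, 15, 3, 8, 7, 2, 17, 12, 11, 16, 4, 5, 13, 10, 1, 0]

set_option maxRecDepth 100000 in
theorem check19 : checkNorm tables19 = true := by decide +kernel

end Cfsg.Agent.SmallGroups
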