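import Cfsg.Agent.Lib.SmallGroups.PSLSearch

/-!
# Table for the uniqueness of the simple group of order `(23 + 1) 23 (23 - 1) / 2`
-/

set_option autoImplicit false

namespace Cfsg.Agent.SmallGroups

open Cfsg.Agent.Classification

/-- The table. -/
def tables23 : Tables (23 + 1) := primeTables 23 2 5 11 11 ![23, 22, 11, 15, 17, 9, 19, 13, 20, 5, 16, 2, 21, 7, 18, 3, 10, 4, 14, 6, 8, 12, 1, 0]

set_option maxRecDepth 100000 in
theorem check23 : checkNorm tables23 = true := by decide +kernel

end Cfsg.Agent.SmallGroups
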